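import Cfsg.Agent.H882.Sc.A7
import Cfsg.Agent.H879.TL.Adapt
import Cfsg.Agent.H906.Trace

/-!
# Scott's lemma for cores (helper882)

`P` a core (`H915.LD.Core`), `e : P ≃* T` : the representation `TL.repOf e` over the algebraic closure is irreducible, and
it has an invariant form if `P` fixes a quadratic form (characteristic `≠ 2`).
-/

set_option autoImplicit false
set_option linter.unusedSectionVars false

namespace Cfsg.Agent.H882.Sc

open Module Matrix Cfsg Cfsg.Geo Cfsg.Agent.H637.JW Cfsg.Agent.H915.LD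

universe u v

variable {ι : Type} [Fintype ι] [DecidableEq ι] {F : Type u} [Field F] {P : Subgroup (GL ι F)} {T : Type v} [Group T]

/-- the span over the closure -/
theorem span_clo (h : ActsAbsolutelyIrreducibly (matrixSet P)) (U : Submodule (AlgebraicClosure F) (ι → AlgebraicClosure F))
    (hU : ∀ g ∈ P, ∀ u ∈ U, H879.TL.clo ι F g u ∈ U) (M : Matrix ι ι (AlgebraicClosure F)) {u : ι → AlgebraicClosure F}
    (hu : u ∈ U) : M *ᵥ u ∈ U := by
  have h1 := H906.span_subtype h
  have h2 : ∀ A : Matrix ι ι F, (A.map (algebraMap F (AlgebraicClosure F))) *ᵥ u ∈ U := by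
    intro A
    have hA : A ∈ Submodule.span F (Set.range ((Units.coeHom (Matrix ι ι F)).comp P.subtype)) := by rw [h1]; trivial
    induction hA using Submodule.span_induction with
    | mem x hx =>
      obtain ⟨g, rfl⟩ := hx
      exact hU g g.2 u hu
    | zero =>
      rw [Matrix.map_zero _ (map_zero _), Matrix.zero_mulVec]
      exact Submodule.zero_mem _
    | add x y _ _ hx hy =>
      rw [Matrix.map_add _ (map_add _), Matrix.add_mulVec]
      exact Submodule.add_mem _ hx hy
    | smul c x _ hx =>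
      have : (c • x).map (algebraMap F (AlgebraicClosure F)) =
          (algebraMap F (AlgebraicClosure F) c) • x.map (algebraMap F (AlgebraicClosure F)) := by
        ext i j
        simp
      rw [this, Matrix.smul_mulVec]
      exact Submodule.smul_mem _ _ hx
  rw [Matrix.matrix_eq_sum_single M, Matrix.sum_mulVec]
  refine Submodule.sum_mem _ fun i _ => ?_
  rw [Matrix.sum_mulVec]
  refine Submodule.sum_mem _ fun j _ => ?_
  have h3 : Matrix.single i j (M i j) = M i j • (Matrix.single i j (1 : F)).map (algebraMap F (AlgebraicClosure F)) := by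
    ext k l
    simp [Matrix.single_apply]
  rw [h3, Matrix.smul_mulVec]
  exact Submodule.smul_mem _ _ (h2 _)

theorem irr_of_core (hC : Core P) (e : P ≃* T) : Irr (H879.TL.repOf e) where
  irr := by
    intro U hU
    by_cases hb : U = ⊥
    · exact Or.inl hb
    · right
      obtain ⟨v, hv, hv0⟩ := Submodule.exists_mem_ne_zero_of_ne_bot hb
      obtain ⟨j, hj⟩ : ∃ j, v j ≠ 0 := by
        by_contra hcon
        push Not at hcon
        exact hv0 (funext hcon)
      rw [eq_top_iff]
      intro w _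
      have hU' : ∀ g ∈ P, ∀ u ∈ U, H879.TL.clo ι F g u ∈ U := by
        intro g hg u hu
        have := hU (e ⟨g, hg⟩) u hu
        rwa [H879.TL.repOf_apply] at this
      have h2 := span_clo hC.absIrred U hU' (Matrix.vecMulVec w (Pi.single j (v j)⁻¹)) hv
      rw [Matrix.vecMulVec_mulVec, single_dotProduct, inv_mul_cancel₀ hj] at h2
      simpa using h2
  two := by
    rw [H879.TL.finrank_clo]
    exact hC.two_le

/-- the matrix of a fixed form -/
theorem exists_matrix (h2 : (2 : F) ≠ 0) (h : FixQ P) : ∃ M : Matrix ι ι F, M.det ≠ 0 ∧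
    ∀ g ∈ P, (g : Matrix ι ι F)ᵀ * M * (g : Matrix ι ι F) = M := by
  obtain ⟨Q, hQ, hP⟩ := h
  set f := QuadraticMap.polar Q with hfdef
  have hf := hQ.polar_bilinear
  have hfix : ∀ g ∈ P, ∀ v w, f ((g : Matrix ι ι F) *ᵥ v) ((g : Matrix ι ι F) *ᵥ w) = f v w := by
    intro g hg v w
    simp only [hfdef]
    unfold QuadraticMap.polar
    rw [← Matrix.mulVec_add, hP _ ⟨g, hg, rfl⟩, hP _ ⟨g, hg, rfl⟩, hP _ ⟨g, hg, rfl⟩]
  let B : (ι → F) →ₗ[F] (ι → F) →ₗ[F] F := LinearMap.mk₂ F f hf.add_left (fun c x y => hf.smul_left c x y)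
    (fun x y z => hf.add_right x y z) (fun c x y => hf.smul_right c x y)
  have hB : ∀ a b, B a b = f a b := fun a b => rfl
  set M : Matrix ι ι F := LinearMap.toMatrix₂' F B with hM
  have hf' : ∀ a b, f a b = a ⬝ᵥ M *ᵥ b := by
    intro a b
    rw [← Matrix.toLinearMap₂'_apply', hM, Matrix.toLinearMap₂'_toMatrix', hB]
  refine ⟨M, ?_, ?_⟩
  · intro h0
    obtain ⟨v, hv, hv0⟩ := Matrix.exists_mulVec_eq_zero_iff.2 h0
    obtain ⟨⟨x, hx⟩, -⟩ := hQ.nondegenerate v hv
    apply hx
    rw [← hfdef, hf', hv0, dotProduct_zero]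
  · intro g hg
    have h1 : B.compl₁₂ (Matrix.toLin' (g : Matrix ι ι F)) (Matrix.toLin' (g : Matrix ι ι F)) = B := by
      apply LinearMap.ext₂
      intro a b
      rw [LinearMap.compl₁₂_apply, hB, hB, Matrix.toLin'_apply, Matrix.toLin'_apply]
      exact hfix g hg a b
    have h2 := LinearMap.toMatrix₂'_compl₁₂ (R := F) B (Matrix.toLin' (g : Matrix ι ι F))
      (Matrix.toLin' (g : Matrix ι ι F))
    rw [h1, LinearMap.toMatrix'_toLin'] at h2
    exact h2.symm

/-- the form over the algebraic closure -/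
theorem form_of_fixQ (h2 : (2 : F) ≠ 0) (h : FixQ P) (e : P ≃* T) :
    ∃ B : (ι → AlgebraicClosure F) →ₗ[AlgebraicClosure F] (ι → AlgebraicClosure F) →ₗ[AlgebraicClosure F]
      AlgebraicClosure F, Form (H879.TL.repOf e) B := by
  obtain ⟨M, hM, hinv⟩ := exists_matrix h2 h
  set K := AlgebraicClosure F
  set N : Matrix ι ι K := M.map (algebraMap F K) with hN
  have hdet : N.det ≠ 0 := by
    rw [hN, ← RingHom.mapMatrix_apply, ← RingHom.map_det]
    exact fun h0 => hM ((algebraMap F K).injective (h0.trans (map_zero _).symm))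
  refine ⟨Matrix.toLinearMap₂' K N.transpose, ?_, ?_⟩
  · intro g v w
    obtain ⟨g, rfl⟩ := e.surjective g
    rw [H879.TL.repOf_apply, H879.TL.clo_apply, H879.TL.clo_apply, Matrix.toLinearMap₂'_apply',
      Matrix.toLinearMap₂'_apply']
    have h1 := congrArg (fun A : Matrix ι ι F => A.map (algebraMap F K)) (hinv g g.2)
    simp only [Matrix.map_mul, Matrix.transpose_map] at h1
    set A : Matrix ι ι K := ((g : GL ι F) : Matrix ι ι F).map (algebraMap F K) with hA
    have h3 : Aᵀ * Nᵀ * A = Nᵀ := by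
      have := congrArg Matrix.transpose h1
      rw [Matrix.transpose_mul, Matrix.transpose_mul, Matrix.transpose_transpose, ← Matrix.mul_assoc] at this
      exact this
    have h4 : v ⬝ᵥ ((Aᵀ * Nᵀ * A) *ᵥ w) = (A *ᵥ v) ⬝ᵥ (Nᵀ *ᵥ (A *ᵥ w)) := by
      rw [← Matrix.mulVec_mulVec, ← Matrix.mulVec_mulVec, Matrix.dotProduct_mulVec v Aᵀ, Matrix.vecMul_transpose]
    rw [← h4, h3]
  · intro v hv
    by_contra hv0
    have h1 : v ᵥ* Nᵀ = 0 := by
      funext j
      have := hv (Pi.single j 1)
      rw [Matrix.toLinearMap₂'_apply', Matrix.dotProduct_mulVec] at this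
      simpa using this
    rw [Matrix.vecMul_transpose] at h1
    exact hdet (Matrix.exists_mulVec_eq_zero_iff.1 ⟨v, hv0, h1⟩)

/-- **`A₇` in orthogonal groups of dimension `11`.** -/
theorem a7_eleven (hC : Core P) (h2 : (2 : F) ≠ 0) (hQ : FixQ P) (hn : Fintype.card ι = 11)
    (e : Soc P ≃* alternatingGroup (Fin 7)) : False := by
  have hbot := H879.TL.scalars_bot_of_odd hC hQ (by rw [hn]; decide)
  let e' := (H879.TL.socEquiv hbot).trans e
  obtain ⟨B, hB⟩ := form_of_fixQ h2 hQ e'
  exact A7.eleven (H879.TL.two_ne_clo h2) (irr_of_core hC e') hB (H879.TL.finrank_clo.trans hn)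

end Cfsg.Agent.H882.Sc
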