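import Cfsg.Agent.H882.Sc.Scott

/-!
# Eigenvalue multiplicities without a form (helper882)

`mult` : `c` of prime order `r ≠ char`, `y c y⁻¹ = c ^ k` : the multiplicities are constant on the orbits of `k`.
`half_eleven` : `c` of order `11`, `y c y⁻¹ = c ^ 3` : `dim V = dim V^c + 5 m`.
-/

set_option autoImplicit false
set_option linter.unusedSectionVars false

namespace Cfsg.Agent.H882.Sc

open Module Cfsg.Agent.H637.JW Cfsg.Agent.H882.Dim

variable {K : Type*} [Field K] {V : Type*} [AddCommGroup V] [Module K V] [FiniteDimensional K V]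
  {G : Type*} [Group G] {σ : G →* Module.End K V} [IsAlgClosed K]

/-- **Multiplicities for an element of prime order**, without a form. -/
theorem mult {c y : G} {r : ℕ} [hr : Fact r.Prime] (hrK : (r : K) ≠ 0)
    (hc : c ^ r = 1) {k : ℕ} (h : y * c * y⁻¹ = c ^ k) {s : ℕ} (hk : (k : ZMod r) ^ (s + 1) = 1) :
    ∃ m : ZMod r → ℕ, m 0 = finrank K (Fix σ c) ∧ ∑ j, m j = finrank K V ∧ (∀ j, m (j * k) = m j) := by
  classical
  obtain ⟨ζ, hζ⟩ := exists_root (K := K) hrK
  have hsum := sum_W (V := V) hrK hζ (f := fun _ : Unit => σ c) (fun _ _ => rfl)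
    (fun _ => by rw [← map_pow, hc, map_one])
  set m : ZMod r → ℕ := fun j => finrank K (Eg σ c (ζ ^ j.val)) with hm
  have hW : ∀ d : Unit → ZMod r, finrank K (W r ζ (fun _ : Unit => σ c) d) = m (d ()) := by
    intro d
    have : W r ζ (fun _ : Unit => σ c) d = Eg σ c (ζ ^ (d ()).val) := by
      ext v
      rw [mem_W, mem_Eg]
      exact ⟨fun h => h (), fun h _ => h⟩
    rw [this]
  have hsum2 : ∑ j : ZMod r, m j = finrank K V := by
    rw [← hsum, Finset.sum_congr rfl fun d _ => hW d]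
    exact (Fintype.sum_equiv (Equiv.funUnique Unit (ZMod r)) _ _ fun d => rfl).symm
  have hmul : ∀ j : ZMod r, m j ≤ m (j * k) := by
    intro j
    have h1 := finrank_Eg_pow (σ := σ) h (ζ ^ j.val)
    have h2 : (ζ ^ j.val) ^ k = ζ ^ (j * k : ZMod r).val := by
      rw [← pow_mul, ZMod.val_mul, ← pow_mod_of_pow_eq_one hζ.pow_eq_one (j.val * k),
        ZMod.val_natCast, Nat.mul_mod_mod]
    rw [h2] at h1
    exact h1
  have hmuls : ∀ (i : ℕ) (j : ZMod r), m j ≤ m (j * (k : ZMod r) ^ i) := by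
    intro i
    induction i with
    | zero => intro j; rw [pow_zero, mul_one]
    | succ i ih =>
      intro j
      refine (ih j).trans ((hmul _).trans ?_)
      rw [pow_succ, mul_assoc]
  refine ⟨m, ?_, hsum2, fun j => le_antisymm ?_ (hmul j)⟩
  · simp only [hm]
    rw [ZMod.val_zero, pow_zero]
    rfl
  · have := hmuls s (j * k)
    rwa [mul_assoc, ← pow_succ', hk, mul_one] at this

theorem fact_eleven : Fact (Nat.Prime 11) := ⟨by norm_num⟩
attribute [local instance] fact_eleven

/-- elements of order `11`, inverted by nothing -/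
theorem half_eleven {c y : G} (h11 : ((11 : ℕ) : K) ≠ 0) (hc : c ^ 11 = 1) (h : y * c * y⁻¹ = c ^ 3) :
    ∃ m, finrank K V = finrank K (Fix σ c) + 5 * m := by
  obtain ⟨m, h0, hs, hm⟩ := mult (σ := σ) h11 hc h (s := 4) (by decide)
  refine ⟨m 1 + m 2, ?_⟩
  rw [← h0, ← hs]
  have e1 : m 3 = m 1 := hm 1
  have e2 : m 9 = m 3 := hm 3
  have e3 : m 5 = m 9 := hm 9
  have e4 : m 4 = m 5 := hm 5
  have f1 : m 6 = m 2 := hm 2
  have f2 : m 7 = m 6 := hm 6
  have f3 : m 10 = m 7 := hm 7
  have f4 : m 8 = m 10 := hm 10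
  have hex : ∑ j : ZMod 11, m j = m 0 + m 1 + m 2 + m 3 + m 4 + m 5 + m 6 + m 7 + m 8 + m 9 + m 10 := by
    have : (Finset.univ : Finset (ZMod 11)) = {0, 1, 2, 3, 4, 5, 6, 7, 8, 9, 10} := by decide
    rw [this]
    have key : ∀ (s : Finset (ZMod 11)) (a : ZMod 11), a ∉ s → ∑ j ∈ insert a s, m j = m a + ∑ j ∈ s, m j :=
      fun s a ha => Finset.sum_insert ha
    rw [key _ _ (by decide), key _ _ (by decide), key _ _ (by decide), key _ _ (by decide), key _ _ (by decide),
      key _ _ (by decide), key _ _ (by decide), key _ _ (by decide), key _ _ (by decide), key _ _ (by decide),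
      Finset.sum_singleton]
    omega
  rw [hex]
  omega

end Cfsg.Agent.H882.Sc
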