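import Cfsg.Agent.H882.Sc.M12Three
import Cfsg.Agent.H882.Sc.Half
import Cfsg.Agent.S2035

/-!
# `M₁₂` has no representation of dimension `11` in characteristic `3` (helper882)

Scott's lemma for the triple `(2B, 3B, 11A)`; no form is used.
-/

set_option autoImplicit false
set_option linter.unusedSectionVars false
set_option maxRecDepth 10000

namespace Cfsg.Agent.H882.ScM12

open Module Subgroup Cfsg Cfsg.Agent.H637.JW Cfsg.Agent.H882.Dim Cfsg.Agent.H882.Tab
open Cfsg.Agent.SporadicA.GolayBase Cfsg.Agent.SporadicA.GolayPerm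
open Cfsg.Agent.H882.Sc (Irr le_of_char half_eleven)

variable {K : Type*} [Field K] {V : Type*} [AddCommGroup V] [Module K V] [FiniteDimensional K V]
  {σ : Spor.M12 →* Module.End K V}

/-- **`M₁₂` in dimension `11`, characteristic `3`.** -/
theorem eleven_free [IsAlgClosed K] (h3 : (3 : K) = 0) (hI : Irr σ) (hV : finrank K V = 11) : False := by
  have s12 := Grp.simple12
  have fact3 : Fact (Nat.Prime 3) := ⟨by norm_num⟩
  have hch : CharP K 3 := Sc.A7.charP_of_zero (by norm_num) (by exact_mod_cast h3)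
  have h2 : (2 : K) ≠ 0 := by
    intro h0
    have : (1 : K) = 3 - 2 := by norm_num
    rw [h3, h0, sub_zero] at this
    exact one_ne_zero this
  have h11 : ((11 : ℕ) : K) ≠ 0 := by
    rw [ne_eq, CharP.cast_eq_zero_iff K 3]
    norm_num
  have hfa := f_a (σ := σ) h2 hV ((hI.fix_lt (ne12 ia 1 (by norm_num) (by decide +kernel))).trans_eq hV)
  have hfy := le_of_char (σ := σ) (p := 3) (c := y) (by
    exact eq12 (isT_pow12 iy 3) one12 (by decide +kernel))
  obtain ⟨m, hm⟩ := half_eleven (σ := σ) (c := a * y) (y := n5) h11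
    (eq12 (isT_pow12 (m12 ia iy) 11) one12 (by decide +kernel))
    (by
      rw [mul_inv_eq_iff_eq_mul]
      exact eq12 (m12 in5 (m12 ia iy)) (m12 (isT_pow12 (m12 ia iy) 3) in5) (by decide +kernel))
  have s1 := hI.scott gen
  omega

end Cfsg.Agent.H882.ScM12

namespace Cfsg.Agent.H882.Sc

open Module Matrix Cfsg Cfsg.Geo Cfsg.Agent.H637.JW Cfsg.Agent.H915.LD

universe u

variable {ι : Type} [Fintype ι] [DecidableEq ι] {F : Type u} [Field F] [Finite F] {P : Subgroup (GL ι F)}

/-- **`M₁₂`, dimension `11`, characteristic `3`**, no form. -/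
theorem m12_free (hC : Core P) (h3 : (3 : F) = 0) (hn : Fintype.card ι = 11) (h : Spor.IsoM12 (Soc P)) : False := by
  obtain ⟨e⟩ := h
  obtain ⟨e', -⟩ := hC.equiv_of_coprime e Cfsg.Agent.S2035.result (by
    rw [hn]
    simp [Nat.card_zmod]
    decide)
  refine ScM12.eleven_free ?_ (irr_of_core hC e') (H879.TL.finrank_clo.trans hn)
  have := congrArg (algebraMap F (AlgebraicClosure F)) h3
  rwa [map_ofNat, map_zero] at this

end Cfsg.Agent.H882.Sc
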