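import Cfsg.Agent.H882.Sc.Core
import Cfsg.Agent.H882.Del.M12V

/-!
# `M₁₂` has no orthogonal representation of dimension `11` in characteristic `3` (helper882)

Scott's lemma for the triple `(2B, 3B, 11A)`.
-/

set_option autoImplicit false
set_option linter.unusedSectionVars false
set_option maxRecDepth 10000

namespace Cfsg.Agent.H882.ScM12

open Module Subgroup Cfsg Cfsg.Agent.H637.JW Cfsg.Agent.H882.Dim Cfsg.Agent.H882.Tab
open Cfsg.Agent.SporadicA.GolayBase Cfsg.Agent.SporadicA.GolayPerm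
open Cfsg.Agent.H882.Sc (Irr Form eig klein_sub le_of_char fix_conj)

variable {K : Type*} [Field K] {V : Type*} [AddCommGroup V] [Module K V] [FiniteDimensional K V]

/-- An extraspecial group of order `32` with centre `z`. -/
theorem four_dvd_of {G : Type*} [Group G] {σ : G →* Module.End K V} (h2 : (2 : K) ≠ 0) {z p q r s : G}
    (hzz : z * z = 1) (hpp : p * p = 1) (hrr : r * r = 1) (hpz : p * z = z * p) (hqz : q * z = z * q)
    (hrz : r * z = z * r) (hsz : s * z = z * s) (hpq : p * q = z * (q * p)) (hrs : r * s = z * (s * r))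
    (hrp : r * p = p * r) (hsp : s * p = p * s) : ∃ k, finrank K V = finrank K (Fix σ z) + 4 * k := by
  have s0 := split_two (σ := σ) h2 hzz ⊤ (fun _ _ => trivial)
  rw [top_inf_eq, top_inf_eq, finrank_top] at s0
  have han : ∀ g : G, g * z = z * g → ∀ v ∈ An σ z, σ g v ∈ An σ z := by
    intro g hg v hv
    rw [mem_An] at hv ⊢
    rw [← mul_apply', ← hg, mul_apply', hv, map_neg]
  have h1 := half (σ := σ) h2 hpp (An σ z) (han p hpz) (σ q) (han q hqz)
    (fun v _ h0 => injective (σ := σ) q (h0.trans (map_zero _).symm))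
    (fun v hv => by
      have h3 := han q hqz _ (han p hpz v hv)
      rw [mem_An] at h3
      rw [← mul_apply', hpq, mul_apply', mul_apply', h3])
  have hfp : ∀ g : G, g * z = z * g → g * p = p * g → ∀ v ∈ An σ z ⊓ Fix σ p, σ g v ∈ An σ z ⊓ Fix σ p :=
    fun g hg hgp v hv => ⟨han g hg v hv.1, fix_le_of_comm hgp hv.2⟩
  have h3 := half (σ := σ) h2 hrr (An σ z ⊓ Fix σ p) (hfp r hrz hrp) (σ s) (hfp s hsz hsp)
    (fun v _ h0 => injective (σ := σ) s (h0.trans (map_zero _).symm))
    (fun v hv => by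
      have h3 := han s hsz _ (han r hrz v hv.1)
      rw [mem_An] at h3
      rw [← mul_apply', hrs, mul_apply', mul_apply', h3])
  exact ⟨finrank K (An σ z ⊓ H637.JW.Fix σ p ⊓ H637.JW.Fix σ r : Submodule K V), by omega⟩

def tZ : ℕ := 903068749257769224688088114104667209
def tZi : ℕ := 942061333012940960982548024188273773
def tN : ℕ := 887014716209510070542526050436925475
def tP : ℕ := 943990642723511586827451626750545106
def tQ : ℕ := 944538153726689472204056554048594313
def tR : ℕ := 638192922561873515343640573858296068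
def tU : ℕ := 476967890056073925362818833625189572

noncomputable def a : Spor.M12 := mk12 tA (by decide +kernel)
noncomputable def y : Spor.M12 := mk12 tZ (by decide +kernel)
noncomputable def yi : Spor.M12 := mk12 tZi (by decide +kernel)
noncomputable def n5 : Spor.M12 := mk12 tN (by decide +kernel)
noncomputable def p : Spor.M12 := mk12 tP (by decide +kernel)
noncomputable def q : Spor.M12 := mk12 tQ (by decide +kernel)
noncomputable def r : Spor.M12 := mk12 tR (by decide +kernel)
noncomputable def s : Spor.M12 := mk12 tU (by decide +kernel)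

theorem ia : IsT a tA := isT_mk12 _ _
theorem iy : IsT y tZ := isT_mk12 _ _
theorem iyi : IsT yi tZi := isT_mk12 _ _
theorem in5 : IsT n5 tN := isT_mk12 _ _
theorem ip : IsT p tP := isT_mk12 _ _
theorem iq : IsT q tQ := isT_mk12 _ _
theorem ir : IsT r tR := isT_mk12 _ _
theorem is : IsT s tU := isT_mk12 _ _

/-- words -/
noncomputable def wd : List ℕ → Spor.M12
  | [] => 1
  | 0 :: l => a * wd l
  | 1 :: l => y * wd l
  | _ :: l => yi * wd l

def wt : List ℕ → ℕ
  | [] => pone
  | 0 :: l => pcomp tA (wt l)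
  | 1 :: l => pcomp tZ (wt l)
  | _ :: l => pcomp tZi (wt l)

theorem isT_wd : ∀ l : List ℕ, IsT (wd l) (wt l)
  | [] => one12
  | 0 :: l => m12 ia (isT_wd l)
  | 1 :: l => m12 iy (isT_wd l)
  | (_ + 2) :: l => m12 iyi (isT_wd l)

theorem y_inv : yi = y⁻¹ := by
  rw [eq_inv_iff_mul_eq_one]
  exact eq12 (m12 iyi iy) one12 (by decide +kernel)

theorem wd_mem : ∀ l : List ℕ, wd l ∈ Subgroup.closure ({a, y} : Set Spor.M12)
  | [] => one_mem _
  | 0 :: l => mul_mem (Subgroup.subset_closure (by simp)) (wd_mem l)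
  | 1 :: l => mul_mem (Subgroup.subset_closure (by simp)) (wd_mem l)
  | (_ + 2) :: l => mul_mem (by rw [y_inv]; exact inv_mem (Subgroup.subset_closure (by simp))) (wd_mem l)

theorem memB : M12V.inc Tab.B ∈ Subgroup.closure ({a, y} : Set Spor.M12) := by
  have h : M12V.inc Tab.B = wd [0, 1, 0, 1, 0, 2, 0, 1, 0, 2, 0, 2, 0, 1, 0, 1, 0, 2, 0, 1, 0, 2, 0, 2] :=
    eq12 iB (isT_wd _) (by decide +kernel)
  rw [h]
  exact wd_mem _

theorem memY : M12V.inc Tab.Y ∈ Subgroup.closure ({a, y} : Set Spor.M12) := by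
  have h : M12V.inc Tab.Y = wd [2, 0, 1, 0, 2, 0, 1, 0, 1, 0, 1, 0, 2, 0, 1, 0, 2, 0, 1, 0, 1] :=
    eq12 iY (isT_wd _) (by decide +kernel)
  rw [h]
  exact wd_mem _

theorem memX : M12V.inc Tab.X ∈ Subgroup.closure ({a, y} : Set Spor.M12) := by
  have h : M12V.inc Tab.X = wd [0, 1, 0, 1, 0, 2, 0, 2, 0, 1, 0, 1, 0, 2, 0, 2, 0, 1, 0, 1] :=
    eq12 iX (isT_wd _) (by decide +kernel)
  rw [h]
  exact wd_mem _

theorem memE : M12V.inc Tab.E ∈ Subgroup.closure ({a, y} : Set Spor.M12) := by
  have h : M12V.inc Tab.E = wd [2, 0, 1, 0, 1, 0, 2, 0, 1, 0, 2, 0, 1, 0, 1, 0, 2, 0, 1, 0, 2, 0, 1, 0, 1, 0, 2, 0, 1] :=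
    eq12 iE (isT_wd _) (by decide +kernel)
  rw [h]
  exact wd_mem _

theorem memJ : Tab.J ∈ Subgroup.closure ({a, y} : Set Spor.M12) := by
  have h : Tab.J = wd [2, 0, 2, 0, 1, 0, 2, 0, 1, 0, 1, 0] :=
    eq12 iJ (isT_wd _) (by decide +kernel)
  rw [h]
  exact wd_mem _

theorem memA : M12V.inc Tab.A ∈ Subgroup.closure ({a, y} : Set Spor.M12) := by
  have h : M12V.inc Tab.A = a := eq12 iA ia (by decide +kernel)
  rw [h]
  exact Subgroup.subset_closure (by simp)

theorem gen : Subgroup.closure ({a, y} : Set Spor.M12) = ⊤ := by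
  set T := Subgroup.closure ({a, y} : Set Spor.M12) with hT
  have hfin : Finite Spor.M12 := Nat.finite_of_card_ne_zero (by rw [Grp.card12]; norm_num)
  have hfin1 : Finite Spor.M11 := Nat.finite_of_card_ne_zero (by rw [Grp.card11]; norm_num)
  have s11 := Grp.simple11
  have s12 := Grp.simple12
  have hinc : Function.Injective M12V.inc := Subgroup.inclusion_injective _
  -- `M₁₁`
  have h1 : T.comap M12V.inc = ⊤ := by
    by_contra hne
    have hL : Grp.L0 ≤ T.comap M12V.inc := Grp.L0_le memA memB memY memX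
    have hd : (T.comap M12V.inc).index ∣ 12 := by
      rw [← Grp.index_L0]
      exact Subgroup.index_dvd_of_le hL
    have h12 := Grp.index_twelve (by rw [Grp.card11]; norm_num) hd hne
    have hcard : Nat.card (T.comap M12V.inc) = Nat.card Grp.L0 := by
      have h3 := (T.comap M12V.inc).card_mul_index
      have h4 := Grp.L0.card_mul_index
      rw [h12] at h3
      rw [Grp.index_L0] at h4
      omega
    have heq := Subgroup.eq_of_le_of_card_ge hL hcard.le
    have hE : Tab.E ∈ Grp.L0 := by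
      rw [heq]
      exact memE
    have h5 := hE
    rw [Grp.mem_L0] at h5
    have h6 := Tab.iE none
    rw [h5] at h6
    revert h6
    decide +kernel
  have hr : M12V.inc.range ≤ T := by
    rintro _ ⟨g, rfl⟩
    have : g ∈ T.comap M12V.inc := by rw [h1]; trivial
    exact this
  have hcr : Nat.card M12V.inc.range = 7920 := by
    rw [← Grp.card11]
    exact (Nat.card_congr (MonoidHom.ofInjective hinc).toEquiv).symm
  have hir : M12V.inc.range.index = 12 := by
    have h3 := M12V.inc.range.card_mul_index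
    rw [hcr, Grp.card12] at h3
    omega
  by_contra hne
  have hd : T.index ∣ 12 := by
    rw [← hir]
    exact Subgroup.index_dvd_of_le hr
  have h12 := Grp.index_twelve (by rw [Grp.card12]; norm_num) hd hne
  have hcard : Nat.card T = Nat.card M12V.inc.range := by
    have h3 := T.card_mul_index
    rw [h12, Grp.card12] at h3
    omega
  have heq := Subgroup.eq_of_le_of_card_ge hr hcard.le
  have hJ : Tab.J ∈ M12V.inc.range := by
    rw [heq]
    exact memJ
  obtain ⟨g, hg⟩ := hJ
  have h5 : (g : Equiv.Perm GolayPt) (some 0) = some 0 := g.2.2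
  have h6 := Tab.iJ (some 0)
  rw [← hg] at h6
  have h7 : ((M12V.inc g : Spor.M12) : Equiv.Perm GolayPt) (some 0) = some 0 := h5
  rw [h7] at h6
  revert h6
  decide +kernel

theorem fact11 : Fact (Nat.Prime 11) := ⟨by norm_num⟩
attribute [local instance] fact11

theorem res11 : ∀ j : ZMod 11, j ≠ 0 → ∃ i : Fin 11, j = ((3 : ℕ) : ZMod 11) ^ (i : ℕ) ∨
    j = -((3 : ℕ) : ZMod 11) ^ (i : ℕ) := by
  decide

variable {σ : Spor.M12 →* Module.End K V}

theorem isT_pow12 {g : Spor.M12} {P : ℕ} (h : IsT g P) (n : ℕ) : IsT (g ^ n : Spor.M12) ((pcomp P)^[n] pone) := by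
  induction n with
  | zero => exact one12
  | succ n ih =>
    rw [pow_succ', Function.iterate_succ_apply']
    exact m12 h ih

theorem ne12 {g : Spor.M12} {P : ℕ} (hg : IsT g P) (i : ℕ) (hi : i < 24)
    (e : Nat.beq (papp P i) (papp pone i) = false) : g ≠ 1 :=
  fun h => Grp.ne_of_isT hg one12 i hi e (congrArg Subtype.val h)

/-- the involutions `2B` -/
theorem f_a (h2 : (2 : K) ≠ 0) (hV : finrank K V = 11) (hlt : finrank K (Fix σ a) < 11) :
    finrank K (Fix σ a) = 7 := by
  obtain ⟨k, hk⟩ := four_dvd_of (σ := σ) h2 (z := a) (p := p) (q := q) (r := r) (s := s)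
    (eq12 (m12 ia ia) one12 (by decide +kernel)) (eq12 (m12 ip ip) one12 (by decide +kernel))
    (eq12 (m12 ir ir) one12 (by decide +kernel)) (eq12 (m12 ip ia) (m12 ia ip) (by decide +kernel))
    (eq12 (m12 iq ia) (m12 ia iq) (by decide +kernel)) (eq12 (m12 ir ia) (m12 ia ir) (by decide +kernel))
    (eq12 (m12 is ia) (m12 ia is) (by decide +kernel)) (eq12 (m12 ip iq) (m12 ia (m12 iq ip)) (by decide +kernel))
    (eq12 (m12 ir is) (m12 ia (m12 is ir)) (by decide +kernel)) (eq12 (m12 ir ip) (m12 ip ir) (by decide +kernel))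
    (eq12 (m12 is ip) (m12 ip is) (by decide +kernel))
  have hA : M12V.inc Tab.A = a := eq12 iA ia (by decide +kernel)
  have hinc : ∀ g h : Spor.M11, g = h → M12V.inc g = M12V.inc h := fun g h e => by rw [e]
  have r := Tab.rel
  have k1 := klein (σ := σ.comp M12V.inc) h2 r.haa r.hbb r.hab rfl (fix_conj (k := Tab.Y) r.hya)
    (fix_conj (k := Tab.Y * Tab.Y) (by
      rw [mul_assoc, r.hya, ← mul_assoc, r.hyb, mul_assoc]))
  have h3 : H637.JW.Fix (σ.comp M12V.inc) Tab.A = H637.JW.Fix σ a := by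
    unfold H637.JW.Fix
    rw [MonoidHom.comp_apply, hA]
  rw [h3, hV] at k1
  omega

/-- **`M₁₂` in dimension `11`, characteristic `3`.** -/
theorem eleven [IsAlgClosed K] (h3 : (3 : K) = 0) (hI : Irr σ) {B : V →ₗ[K] V →ₗ[K] K} (hB : Form σ B)
    (hV : finrank K V = 11) : False := by
  have s12 := Grp.simple12
  have fact3 : Fact (Nat.Prime 3) := ⟨by norm_num⟩
  have hch : CharP K 3 := Sc.A7.charP_of_zero (by norm_num) (by exact_mod_cast h3)
  have h2 : (2 : K) ≠ 0 := by
    intro h0
    have : (1 : K) = 3 - 2 := by norm_num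
    rw [h3, h0, sub_zero] at this
    exact one_ne_zero this
  have h11 : ((11 : ℕ) : K) ≠ 0 := by
    rw [ne_eq, CharP.cast_eq_zero_iff K 3]
    norm_num
  have hfa := f_a (σ := σ) h2 hV ((hI.fix_lt (ne12 ia 1 (by norm_num) (by decide +kernel))).trans_eq hV)
  have hfy := le_of_char (σ := σ) (p := 3) (c := y) (by
    exact eq12 (isT_pow12 iy 3) one12 (by decide +kernel))
  obtain ⟨m, hm⟩ := eig hB (c := a * y) (y := n5) (r := 11) (k := 3) h11
    (eq12 (isT_pow12 (m12 ia iy) 11) one12 (by decide +kernel))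
    (by
      rw [mul_inv_eq_iff_eq_mul]
      exact eq12 (m12 in5 (m12 ia iy)) (m12 (isT_pow12 (m12 ia iy) 3) in5) (by decide +kernel)) res11
  have hlt := hI.fix_lt (g := a * y) (ne12 (m12 ia iy) 2 (by norm_num) (by decide +kernel))
  have s1 := hI.scott gen
  omega

end Cfsg.Agent.H882.ScM12
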