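import Cfsg.Agent.H882.Sc.J1
import Cfsg.Agent.H882.Sc.M12Three

/-!
# `J₁` and `M₁₂` (characteristic `3`) in orthogonal groups of dimension `11` (helper882)
-/

set_option autoImplicit false
set_option linter.unusedSectionVars false

namespace Cfsg.Agent.H882.Sc

open Module Matrix Cfsg Cfsg.Geo Cfsg.Agent.H637.JW Cfsg.Agent.H915.LD

universe u v

variable {ι : Type} [Fintype ι] [DecidableEq ι] {F : Type u} [Field F] {P : Subgroup (GL ι F)}

/-- **`J₁`.** -/
theorem j1_eleven (hC : Core P) (h2 : (2 : F) ≠ 0) (hQ : FixQ P) (hn : Fintype.card ι = 11)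
    (h : Spor.IsoJ1 (Soc P)) : False := by
  have hbot := H879.TL.scalars_bot_of_odd hC hQ (by rw [hn]; decide)
  obtain ⟨e⟩ := h
  let e' := (H879.TL.socEquiv hbot).trans e
  obtain ⟨B, hB⟩ := form_of_fixQ h2 hQ e'
  exact ScJ1.eleven (H879.TL.two_ne_clo h2) (irr_of_core hC e') hB (H879.TL.finrank_clo.trans hn)

/-- **`M₁₂`**, characteristic `3`. -/
theorem m12_eleven (hC : Core P) (h3 : (3 : F) = 0) (hQ : FixQ P) (hn : Fintype.card ι = 11)
    (h : Spor.IsoM12 (Soc P)) : False := by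
  have h2 : (2 : F) ≠ 0 := by
    intro h0
    have : (1 : F) = 3 - 2 := by norm_num
    rw [h3, h0, sub_zero] at this
    exact one_ne_zero this
  have hbot := H879.TL.scalars_bot_of_odd hC hQ (by rw [hn]; decide)
  obtain ⟨e⟩ := h
  let e' := (H879.TL.socEquiv hbot).trans e
  obtain ⟨B, hB⟩ := form_of_fixQ h2 hQ e'
  refine ScM12.eleven ?_ (irr_of_core hC e') hB (H879.TL.finrank_clo.trans hn)
  have := congrArg (algebraMap F (AlgebraicClosure F)) h3
  rwa [map_ofNat, map_zero] at this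

end Cfsg.Agent.H882.Sc
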