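import Cfsg.Agent.H882.Sc.Tools
import Cfsg.Agent.H923.Ten.A7Grp

/-!
# `A₇` has no self-dual irreducible representation of dimension `11`, odd characteristic (helper882)
-/

set_option autoImplicit false
set_option linter.unusedSectionVars false
set_option maxRecDepth 10000

namespace Cfsg.Agent.H882.Sc.A7

open Module Equiv Cfsg.Agent.H637.JW Cfsg.Agent.H882.Dim Cfsg.Agent.H882.Sc Cfsg.Agent.H923.Ten.A7

/-- involution -/
def z : A := e2 0 1 2 3
/-- seven-cycle -/
def c : A := e2 0 2 2 1 * e2 1 3 3 4 * e2 4 5 5 6
def yc : A := e2 1 4 4 2 * e2 3 6 6 5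
def yzc : A := e2 1 5 5 2 * e2 3 4 4 6

theorem gen_zc : Subgroup.closure ({z, c} : Set A) = ⊤ := by
  apply top_of_c
  · rw [show c2 = ev z c [false, true, true, false, true, true, false, true] by decide +kernel]; exact ev_mem _ _ _
  · rw [show c3 = ev z c [false, true, false, true, true, false, true, true, false] by decide +kernel]; exact ev_mem _ _ _
  · rw [show c4 = ev z c [false, true, false, true, true, true, true, true, true] by decide +kernel]; exact ev_mem _ _ _
  · rw [show c5 = ev z c [true, true, true, true, true, false, true, false, true] by decide +kernel]; exact ev_mem _ _ _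
  · rw [show c6 = ev z c [false, true, true, false, true, true, true, false, true, true, false, true, true, false, true] by
      decide +kernel]
    exact ev_mem _ _ _

/-- five-cycle -/
def d : A := e2 1 4 4 6 * e2 6 3 3 5
def yd : A := e2 0 2 3 4 * e2 4 6 6 5

theorem gen_zd : Subgroup.closure ({z, d} : Set A) = ⊤ := by
  apply top_of_c
  · rw [show c2 = ev z d [true, true, true, false, true, false, true, false, true] by decide +kernel]; exact ev_mem _ _ _
  · rw [show c3 = ev z d [true, false, true, false, true, false, true, true, true, false] by decide +kernel]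
    exact ev_mem _ _ _
  · rw [show c4 = ev z d [true, false, true, false, true, false, true, true, false, true, false, true] by decide +kernel]
    exact ev_mem _ _ _
  · rw [show c5 = ev z d [true, false, true, false, true, true, false, true, false, true, true, false] by decide +kernel]
    exact ev_mem _ _ _
  · rw [show c6 = ev z d [true, true, false, true, true, true, false, true, false, true, false, true, false, true, true, true]
      by decide +kernel]
    exact ev_mem _ _ _

/-- elements of type `3B` -/
def x : A := e2 0 1 1 2 * e2 3 4 4 5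
def w : A := e2 0 3 3 1 * e2 4 6 6 5
def yw : A := e2 1 2 2 6 * e2 6 4 4 3

theorem gen_xw : Subgroup.closure ({x, w} : Set A) = ⊤ := by
  apply top_of_c
  · rw [show c2 = ev x w [false, false, true, false, true, false, false, true, true, false, false, true, false, true] by
      decide +kernel]
    exact ev_mem _ _ _
  · rw [show c3 = ev x w [false, true, false, true, true, false, false, true, true, false, true, false, true] by
      decide +kernel]
    exact ev_mem _ _ _
  · rw [show c4 = ev x w [false, true, true, false, true, false, true, false, false, true, false, false, true, false, true]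
      by decide +kernel]
    exact ev_mem _ _ _
  · rw [show c5 = ev x w [true, false, false, true, false, true, false, false, true, false, true, true, false, true, true]
      by decide +kernel]
    exact ev_mem _ _ _
  · rw [show c6 = ev x w [true, false, true, true, false, true] by decide +kernel]; exact ev_mem _ _ _

/-! ### The theorem -/

def b1 : A := e2 0 2 1 3
def y1 : A := e2 1 2 2 3
def b2 : A := e2 2 3 4 5
def y2 : A := e2 0 2 2 4 * e2 1 3 3 5
def p1 : A := e2 0 1 1 2
def p2 : A := e2 3 4 4 5
def t1 : A := e2 1 2 3 4
def t2 : A := e2 1 2 4 5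
def yxw : A := e2 1 5 2 3 * e2 3 4 4 6

variable {K : Type*} [Field K] {V : Type*} [AddCommGroup V] [Module K V] [FiniteDimensional K V]
  {σ : A →* Module.End K V}

theorem simpleA : IsSimpleGroup A := alternatingGroup.isSimpleGroup (by simp)

theorem charP_of_zero {p : ℕ} (hp : p.Prime) (h : (p : K) = 0) : CharP K p := by
  obtain ⟨q, hq⟩ := CharP.exists K
  have h1 : q ∣ p := (CharP.cast_eq_zero_iff K q p).1 h
  rcases (Nat.dvd_prime hp).1 h1 with h2 | h2
  · exact absurd h2 (CharP.char_ne_one K q)
  · rwa [h2] at hq

theorem fact5 : Fact (Nat.Prime 5) := ⟨by norm_num⟩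
theorem fact7 : Fact (Nat.Prime 7) := ⟨by norm_num⟩

attribute [local instance] fact5 fact7

theorem res5 : ∀ j : ZMod 5, j ≠ 0 → ∃ i : Fin 5, j = ((2 : ℕ) : ZMod 5) ^ (i : ℕ) ∨ j = -((2 : ℕ) : ZMod 5) ^ (i : ℕ) := by
  decide
theorem res7 : ∀ j : ZMod 7, j ≠ 0 → ∃ i : Fin 7, j = ((2 : ℕ) : ZMod 7) ^ (i : ℕ) ∨ j = -((2 : ℕ) : ZMod 7) ^ (i : ℕ) := by
  decide

/-- **`A₇` in dimension `11`.** -/
theorem eleven [IsAlgClosed K] (h2 : (2 : K) ≠ 0) (hI : Irr σ) {B : V →ₗ[K] V →ₗ[K] K} (hB : Form σ B)
    (hV : finrank K V = 11) : False := by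
  have := simpleA
  have k1 := klein (σ := σ) h2 (a := z) (b := b1) (by decide +kernel) (by decide +kernel) (by decide +kernel) rfl
    (fix_conj (k := y1) (by decide +kernel)) (fix_conj (k := y1 * y1) (by decide +kernel))
  rw [hV] at k1
  by_cases h7 : (7 : K) = 0
  · have hch : CharP K 7 := by
      have : Fact (Nat.Prime 7) := ⟨by norm_num⟩
      exact charP_of_zero (by norm_num) (by exact_mod_cast h7)
    have : Fact (Nat.Prime 7) := ⟨by norm_num⟩
    have : Fact (Nat.Prime 5) := ⟨by norm_num⟩
    have h3 : (3 : K) ≠ 0 := by
      intro h0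
      have : (1 : K) = 0 := by
        have : (1 : K) = 7 - 2 * 3 := by norm_num
        rw [this, h7, h0, mul_zero, sub_zero]
      exact one_ne_zero this
    have h5 : ((5 : ℕ) : K) ≠ 0 := by
      intro h0
      have h0' : (5 : K) = 0 := by exact_mod_cast h0
      have : (1 : K) = 0 := by
        have : (1 : K) = 3 * 5 - 2 * 7 := by norm_num
        rw [this, h7, h0', mul_zero, mul_zero, sub_zero]
      exact one_ne_zero this
    obtain ⟨m, hm⟩ := eig hB (c := d) (y := yd) (r := 5) (k := 2) h5 (by decide +kernel) (by decide +kernel) res5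
    obtain ⟨m', hm'⟩ := eig hB (c := x * w) (y := yxw) (r := 5) (k := 2) h5 (by decide +kernel) (by decide +kernel)
      res5
    have l1 := hI.fix_lt (g := d) (by decide +kernel)
    have l2 := hI.fix_lt (g := x * w) (by decide +kernel)
    have c1 := le_of_char (σ := σ) (p := 7) (c := z * d) (by decide +kernel)
    have s1 := hI.scott gen_zd
    have s2 := hI.scott gen_xw
    have a1 := a4_le (σ := σ) h2 (a := z) (b := b1) (y := y1) (by decide +kernel) (by decide +kernel) (by decide +kernel)
      (by decide +kernel) (by decide +kernel)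
    have a2 := a4_le (σ := σ) h2 (a := z) (b := b2) (y := y2) (by decide +kernel) (by decide +kernel) (by decide +kernel)
      (by decide +kernel) (by decide +kernel)
    obtain ⟨n1, hn1⟩ := even_of_inv (σ := σ) h2 h3 (a := t1) (y := p1) (by decide +kernel) (by decide +kernel)
      (by decide +kernel)
    obtain ⟨n2, hn2⟩ := even_of_inv (σ := σ) h2 h3 (a := t2) (y := x) (by decide +kernel) (by decide +kernel)
      (by decide +kernel)
    have e9 := nine' (σ := σ) h3 (x := p1) (y := p2) (by decide +kernel) (by decide +kernel) (by decide +kernel)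
    have q1 : finrank K (Fix σ p2) = finrank K (Fix σ p1) := fix_conj (k := e2 0 3 1 4 * e2 4 2 2 5) (by decide +kernel)
    have q2 : finrank K (Fix σ (p1 * p2)) = finrank K (Fix σ x) := by
      rw [show p1 * p2 = x by decide +kernel]
    have q3 : finrank K (Fix σ (p1 * p1 * p2)) = finrank K (Fix σ x) :=
      fix_conj (k := e2 0 3 1 4 * e2 4 2 2 5) (by decide +kernel)
    have q4 : finrank K (Fix σ y2) = finrank K (Fix σ x) := fix_conj (k := e2 0 1 1 3 * e2 2 5 5 4) (by decide +kernel)
    have q5 : finrank K (Fix σ y1) = finrank K (Fix σ p1) := fix_conj (k := e2 5 6 0 1 * e2 1 2 2 3) (by decide +kernel)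
    have q6 : finrank K (Fix σ w) = finrank K (Fix σ x) := fix_conj (k := e2 1 3 3 4 * e2 4 6 6 2) (by decide +kernel)
    omega
  · have h7' : ((7 : ℕ) : K) ≠ 0 := by exact_mod_cast h7
    obtain ⟨m, hm⟩ := eig hB (c := c) (y := yc) (r := 7) (k := 2) h7' (by decide +kernel) (by decide +kernel) res7
    obtain ⟨m', hm'⟩ := eig hB (c := z * c) (y := yzc) (r := 7) (k := 2) h7' (by decide +kernel) (by decide +kernel)
      res7
    have l1 := hI.fix_lt (g := c) (by decide +kernel)
    have l2 := hI.fix_lt (g := z * c) (by decide +kernel)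
    have s1 := hI.scott gen_zc
    omega

end Cfsg.Agent.H882.Sc.A7
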