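import Cfsg.Agent.H882.Sc.Scott

/-!
# Scott's lemma for arbitrary representations (helper882)

* `scott_gen` : `dim V^x + dim V^y + dim V^(xy) ≤ dim V + dim V^H + dim V/[V,H]`, `H = ⟨x, y⟩`;
* `scott_form` : with an invariant nondegenerate form : `≤ dim V + 2 dim V^H`.
-/

set_option autoImplicit false
set_option linter.unusedSectionVars false

namespace Cfsg.Agent.H882.Sc

open Module Cfsg.Agent.H637.JW Cfsg.Agent.H882.Dim

variable {K : Type*} [Field K] {V : Type*} [AddCommGroup V] [Module K V] [FiniteDimensional K V]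
  {G : Type*} [Group G] {σ : G →* Module.End K V}

/-- **Scott's lemma**, general form. -/
theorem scott_gen (x y : G) :
    finrank K (Fix σ x) + finrank K (Fix σ y) + finrank K (Fix σ (x * y)) + finrank K (Rg σ x ⊔ Rg σ y : Submodule K V) ≤
      2 * finrank K V + finrank K (Fix σ x ⊓ Fix σ y : Submodule K V) := by
  let f : Fix σ (x * y) →ₗ[K] V := (σ y - 1).comp (Fix σ (x * y)).subtype
  have hfx : ∀ v : Fix σ (x * y), σ x (σ y (v : V)) = v := fun v => by
    rw [← mul_apply']
    exact mem_Fix.1 v.2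
  have hr : LinearMap.range f ≤ Rg σ x ⊓ Rg σ y := by
    rintro _ ⟨v, rfl⟩
    refine ⟨⟨-(σ y v), ?_⟩, ⟨v, rfl⟩⟩
    change σ x (-(σ y v)) - -(σ y v) = σ y v - v
    rw [map_neg, hfx v]
    abel
  have hk : finrank K (LinearMap.ker f) ≤ finrank K (Fix σ x ⊓ Fix σ y : Submodule K V) := by
    let g : LinearMap.ker f →ₗ[K] (Fix σ x ⊓ Fix σ y : Submodule K V) :=
      LinearMap.codRestrict _ ((Fix σ (x * y)).subtype.comp (LinearMap.ker f).subtype) (by
        rintro ⟨v, hv⟩
        have h3 : σ y (v : V) = v := sub_eq_zero.1 (LinearMap.mem_ker.1 hv)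
        have h4 : σ x (σ y (v : V)) = v := hfx v
        rw [h3] at h4
        exact ⟨mem_Fix.2 h4, mem_Fix.2 h3⟩)
    refine LinearMap.finrank_le_finrank_of_injective (f := g) ?_
    intro a b hab
    apply Subtype.ext
    apply Subtype.ext
    exact congrArg (Submodule.subtype (Fix σ x ⊓ Fix σ y)) hab
  have h5 := Submodule.finrank_mono hr
  have h9 := LinearMap.finrank_range_add_finrank_ker f
  have h6 := Submodule.finrank_sup_add_finrank_inf_eq (Rg σ x) (Rg σ y)
  have h7 := rank_Rg (σ := σ) x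
  have h8 := rank_Rg (σ := σ) y
  omega

/-- the orthogonal complement of the fixed space -/
theorem Form.rank_sup {B : V →ₗ[K] V →ₗ[K] K} (hB : Form σ B) (x y : G) :
    finrank K V ≤ finrank K (Rg σ x ⊔ Rg σ y : Submodule K V) + finrank K (Fix σ x ⊓ Fix σ y : Submodule K V) := by
  -- the annihilator of `U = [V,x] + [V,y]` consists of fixed vectors
  set U : Submodule K V := Rg σ x ⊔ Rg σ y with hU
  let f : V →ₗ[K] Module.Dual K U := (Module.Dual.transpose (R := K) (Submodule.subtype U)) ∘ₗ B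
  have hker : LinearMap.ker f ≤ Fix σ x ⊓ Fix σ y := by
    intro v hv
    have h1 : ∀ u ∈ U, B v u = 0 := fun u hu => LinearMap.congr_fun (LinearMap.mem_ker.1 hv) ⟨u, hu⟩
    have key : ∀ g, Rg σ g ≤ U → σ g v = v := by
      intro g hg
      have h2 : ∀ w, B (σ g v - v) w = 0 := by
        intro w
        have h3 : B (σ g v) (σ g (σ g⁻¹ w)) = B v (σ g⁻¹ w) := hB.inv g v _
        rw [← mul_apply' (σ := σ) g g⁻¹ w, mul_inv_cancel, map_one, Module.End.one_apply] at h3
        have h4 := h1 _ (hg (mem_Rg g (σ g⁻¹ w)))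
        rw [← mul_apply' (σ := σ) g g⁻¹ w, mul_inv_cancel, map_one, Module.End.one_apply, map_sub] at h4
        rw [map_sub, LinearMap.sub_apply, h3]
        rw [← neg_sub, h4, neg_zero]
      exact sub_eq_zero.1 (hB.nd _ h2)
    exact ⟨mem_Fix.2 (key x le_sup_left), mem_Fix.2 (key y le_sup_right)⟩
  have h1 := LinearMap.finrank_range_add_finrank_ker f
  have h2 := Submodule.finrank_mono hker
  have h3 := Submodule.finrank_le (LinearMap.range f)
  rw [Subspace.dual_finrank_eq] at h3
  omega

/-- **Scott's lemma with a form.** -/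
theorem scott_form {B : V →ₗ[K] V →ₗ[K] K} (hB : Form σ B) (x y : G) :
    finrank K (Fix σ x) + finrank K (Fix σ y) + finrank K (Fix σ (x * y)) ≤
      finrank K V + 2 * finrank K (Fix σ x ⊓ Fix σ y : Submodule K V) := by
  have h1 := scott_gen (σ := σ) x y
  have h2 := hB.rank_sup x y
  omega

end Cfsg.Agent.H882.Sc
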