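import Cfsg.Agent.H882.Sc.Core
import Cfsg.Agent.H1.TJ1

/-!
# `J₁` has no orthogonal representation of dimension `11`, odd characteristic (helper882)
-/

set_option autoImplicit false
set_option linter.unusedSectionVars false
set_option maxRecDepth 10000

namespace Cfsg.Agent.H882.ScJ1

open Module Subgroup Cfsg.Agent.H637.JW Cfsg.Agent.H882.Dim
open Cfsg.Agent.H882.Sc (Irr Form eig eig_mult klein_sub le_of_char fix_conj)
open Cfsg.Agent.SporadicB.J1.Mat Cfsg.Agent.SporadicB.J1.Data Cfsg.Agent.SporadicB.J1.Main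
open Cfsg.Spor (J1)

/-- subgroups containing the generators -/
theorem top_of (T : Subgroup J1) (hX : X ∈ T) (hY : Y ∈ T) : T = ⊤ := by
  have h : (Subgroup.closure ({X, Y} : Set J1)).map J1.subtype = (⊤ : Subgroup J1).map J1.subtype := by
    rw [MonoidHom.map_closure, Set.image_pair, ← MonoidHom.range_eq_map, Subgroup.range_subtype]
    rfl
  have h1 := Subgroup.map_injective J1.subtype_injective h
  rw [eq_top_iff, ← h1, Subgroup.closure_le]
  rintro g (rfl | rfl)
  · exact hX
  · exact hY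

abbrev wa : List Nat := [1, 0, 3, 0]
abbrev wb : List Nat := [0, 1, 0, 3, 0, 2]
abbrev wc : List Nat := [0, 0, 1, 0, 3, 0, 2, 2]
/-- conjugate of `a` -/
abbrev wt : List Nat := [1, 1, 0, 3, 0, 3]
abbrev w7 : List Nat := [1, 0, 1, 2, 3, 3, 2, 3, 2, 3, 0, 1, 1, 0, 1]
abbrev w19 : List Nat := [3, 2, 3, 2, 3, 0, 0, 3, 0, 3, 3, 0, 0]

theorem ev_append (u v : List Nat) : ev (u ++ v) = ev u * ev v := by
  induction u with
  | nil => rw [List.nil_append]; exact (one_mul _).symm
  | cons a u ih =>
    rcases a with _ | _ | _ | a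
    · change X * ev (u ++ v) = X * ev u * ev v
      rw [ih, mul_assoc]
    · change Y * ev (u ++ v) = Y * ev u * ev v
      rw [ih, mul_assoc]
    · change X⁻¹ * ev (u ++ v) = X⁻¹ * ev u * ev v
      rw [ih, mul_assoc]
    · change Y⁻¹ * ev (u ++ v) = Y⁻¹ * ev u * ev v
      rw [ih, mul_assoc]

theorem mem_flatten {T : Subgroup J1} (L : List (List Nat)) (h : ∀ w ∈ L, ev w ∈ T) : ev L.flatten ∈ T := by
  induction L with
  | nil => exact T.one_mem
  | cons w L ih =>
    rw [List.flatten_cons, ev_append]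
    exact T.mul_mem (h w (by simp)) (ih fun v hv => h v (by simp [hv]))

theorem ev_two_mem {T : Subgroup J1} (h : ev [0] ∈ T) : ev [2] ∈ T := by
  have h1 : ev [2] = (ev [0])⁻¹ := by
    change X⁻¹ * 1 = (X * 1)⁻¹
    rw [mul_one, mul_one]
  rw [h1]
  exact T.inv_mem h

theorem top_of' (T : Subgroup J1) (hX : ev [0] ∈ T) (hY : ev [1] ∈ T) : T = ⊤ := by
  refine top_of _ ?_ ?_
  · have : X = ev [0] := (mul_one X).symm
    rw [this]; exact hX
  · have : Y = ev [1] := (mul_one Y).symm
    rw [this]; exact hY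

theorem gen19 : Subgroup.closure ({ev wt, ev [0, 3]} : Set J1) = ⊤ := by
  have h1 : ev wt ∈ Subgroup.closure ({ev wt, ev [0, 3]} : Set J1) := Subgroup.subset_closure (by simp)
  have h2 : ev [0, 3] ∈ Subgroup.closure ({ev wt, ev [0, 3]} : Set J1) := Subgroup.subset_closure (by simp)
  have hY : ev [1] ∈ Subgroup.closure ({ev wt, ev [0, 3]} : Set J1) := by
    have h : ev [1] = ev ([[0, 3], [0, 3], wt, [0, 3], [0, 3], wt] : List (List Nat)).flatten :=
      (rep_ev _).eq (rep_ev _) (by decide +kernel)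
    rw [h]
    refine mem_flatten _ fun w hw => ?_
    have h5 : ∀ w ∈ ([[0, 3], [0, 3], wt, [0, 3], [0, 3], wt] : List (List Nat)), w = wt ∨ w = [0, 3] := by decide
    rcases h5 w hw with h | h
    · rw [h]; exact h1
    · rw [h]; exact h2
  have hX : ev [0] ∈ Subgroup.closure ({ev wt, ev [0, 3]} : Set J1) := by
    have h : ev [0] = ev [0, 3] * ev [1] := (rep_ev _).eq ((rep_ev _).mul (rep_ev _)) (by decide +kernel)
    rw [h]
    exact mul_mem h2 hY
  exact top_of' _ hX hY

theorem gen7 : Subgroup.closure ({ev wt, ev [0]} : Set J1) = ⊤ := by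
  have h1 : ev wt ∈ Subgroup.closure ({ev wt, ev [0]} : Set J1) := Subgroup.subset_closure (by simp)
  have h2 : ev [0] ∈ Subgroup.closure ({ev wt, ev [0]} : Set J1) := Subgroup.subset_closure (by simp)
  have h3 := ev_two_mem h2
  have hY : ev [1] ∈ Subgroup.closure ({ev wt, ev [0]} : Set J1) := by
    have h : ev [1] = ev ([wt, [0], wt, [2], wt, [0], [0], [0], wt, [0], [0], wt, [2], wt, [0], wt, [0], [0]] :
        List (List Nat)).flatten := (rep_ev _).eq (rep_ev _) (by decide +kernel)
    rw [h]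
    refine mem_flatten _ fun w hw => ?_
    have h5 : ∀ w ∈ ([wt, [0], wt, [2], wt, [0], [0], [0], wt, [0], [0], wt, [2], wt, [0], wt, [0], [0]] :
        List (List Nat)), w = wt ∨ w = [0] ∨ w = [2] := by decide
    rcases h5 w hw with h | h | h
    · rw [h]; exact h1
    · rw [h]; exact h2
    · rw [h]; exact h3
  exact top_of' _ h2 hY

theorem fact19 : Fact (Nat.Prime 19) := ⟨by norm_num⟩
attribute [local instance] fact19 Sc.A7.fact7

variable {K : Type*} [Field K] {V : Type*} [AddCommGroup V] [Module K V] [FiniteDimensional K V]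
  {σ : J1 →* Module.End K V}

theorem mul2 {u v w : List Nat} (h : mulC (evC u) (evC v) = evC w) : ev u * ev v = ev w :=
  ((rep_ev _).mul (rep_ev _)).eq (rep_ev _) h

theorem comm2 {u v w z : List Nat} (h : mulC (evC u) (evC v) = mulC (evC w) (evC z)) :
    ev u * ev v = ev w * ev z :=
  ((rep_ev _).mul (rep_ev _)).eq ((rep_ev _).mul (rep_ev _)) h

theorem sq_of {u : List Nat} (h : mulC (evC u) (evC u) = cI) : ev u * ev u = 1 :=
  ((rep_ev _).mul (rep_ev _)).eq Rep.one h

/-- the fixed space of an involution in dimension `11` -/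
theorem f_a (h2 : (2 : K) ≠ 0) (hV : finrank K V = 11) (hlt : finrank K (Fix σ (ev wa)) < 11) :
    finrank K (Fix σ (ev wa)) = 7 := by
  have q1 : finrank K (Fix σ (ev wb)) = finrank K (Fix σ (ev wa)) := fix_conj (k := ev [0]) (comm2 (by decide +kernel))
  have q2 : finrank K (Fix σ (ev wc)) = finrank K (Fix σ (ev wb)) := fix_conj (k := ev [0]) (comm2 (by decide +kernel))
  have q3 : finrank K (Fix σ (ev wa * ev wb)) = finrank K (Fix σ (ev wc)) := by
    rw [← ev_append]
    exact fix_conj (k := ev [0]) (comm2 (by decide +kernel))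
  have q4 : finrank K (Fix σ (ev wb * ev wc)) = finrank K (Fix σ (ev wa * ev wb)) := by
    rw [← ev_append, ← ev_append]
    exact fix_conj (k := ev [0]) (comm2 (by decide +kernel))
  have q5 : finrank K (Fix σ (ev wa * (ev wb * ev wc))) = finrank K (Fix σ (ev wb * ev wc)) := by
    rw [← ev_append, ← ev_append]
    exact fix_conj (k := ev [0]) (comm2 (by decide +kernel))
  have q6 : finrank K (Fix σ (ev wa * ev wc)) = finrank K (Fix σ (ev wa * (ev wb * ev wc))) := by
    rw [← ev_append, ← ev_append, ← ev_append]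
    exact fix_conj (k := ev [0]) (comm2 (by decide +kernel))
  have haa : ev wa * ev wa = 1 := sq_of (by decide +kernel)
  have hbb : ev wb * ev wb = 1 := sq_of (by decide +kernel)
  have hcc : ev wc * ev wc = 1 := sq_of (by decide +kernel)
  have hab : ev wa * ev wb = ev wb * ev wa := comm2 (by decide +kernel)
  have hac : ev wa * ev wc = ev wc * ev wa := comm2 (by decide +kernel)
  have hbc : ev wb * ev wc = ev wc * ev wb := comm2 (by decide +kernel)
  have hbcbc : (ev wb * ev wc) * (ev wb * ev wc) = 1 := by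
    rw [mul_assoc, ← mul_assoc (ev wc), ← hbc, mul_assoc (ev wb) (ev wc), hcc, mul_one, hbb]
  have habc : ev wa * (ev wb * ev wc) = (ev wb * ev wc) * ev wa := by
    rw [← mul_assoc, hab, mul_assoc, hac, mul_assoc]
  have k1 := klein_sub (σ := σ) h2 haa hbb hab ⊤ (fun _ _ => trivial) (fun _ _ => trivial)
  have k2 := klein_sub (σ := σ) h2 haa hcc hac ⊤ (fun _ _ => trivial) (fun _ _ => trivial)
  have k3 := klein_sub (σ := σ) h2 haa hbcbc habc ⊤ (fun _ _ => trivial) (fun _ _ => trivial)
  have k4 := klein_sub (σ := σ) h2 hbb hcc hbc (Fix σ (ev wa)) (fun v hv => fix_le_of_comm hab.symm hv)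
    (fun v hv => fix_le_of_comm hac.symm hv)
  rw [top_inf_eq, top_inf_eq, top_inf_eq, finrank_top] at k1 k2 k3
  have k5 : finrank K (Fix σ (ev wa) ⊓ Fix σ (ev wb) ⊓ Fix σ (ev wc) : Submodule K V) ≤
      finrank K (Fix σ (ev wa) ⊓ Fix σ (ev wb) : Submodule K V) := Submodule.finrank_mono inf_le_left
  rw [hV] at k1 k2 k3
  rw [q1] at q2 k1
  rw [q2] at q3 k2
  rw [q3] at q4 k1
  rw [q4] at q5 k3
  rw [q5] at q6 k3
  rw [q6] at k2
  omega

theorem simpleJ1 : IsSimpleGroup J1 := Cfsg.Agent.SporadicB.J1.Main.isJ1.1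

/-- **`J₁` in dimension `11`.** -/
theorem eleven [IsAlgClosed K] (h2 : (2 : K) ≠ 0) (hI : Irr σ) {B : V →ₗ[K] V →ₗ[K] K} (hB : Form σ B)
    (hV : finrank K V = 11) : False := by
  have := simpleJ1
  have hfa := f_a (σ := σ) h2 hV ((hI.fix_lt ((rep_ev _).ne Rep.one (by decide +kernel))).trans_eq hV)
  have hft : finrank K (Fix σ (ev wt)) = finrank K (Fix σ (ev wa)) := fix_conj (k := ev [1]) (comm2 (by decide +kernel))
  by_cases h7 : (7 : K) = 0
  · have h19 : ((19 : ℕ) : K) ≠ 0 := by
      intro h0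
      have h0' : (19 : K) = 0 := by exact_mod_cast h0
      have : (2 : K) = 0 := by
        have : (2 : K) = 3 * 7 - 19 := by norm_num
        rw [this, h7, h0', mul_zero, sub_zero]
      exact h2 this
    obtain ⟨m, m0, hsum, hm, hneg⟩ := eig_mult hB (c := ev [0, 3]) (y := ev w19) (r := 19) (k := 7) (s := 2) h19
      (((rep_ev _).pow 19).eq Rep.one (by decide +kernel))
      (by
        rw [mul_inv_eq_iff_eq_mul]
        exact ((rep_ev _).mul (rep_ev _)).eq (((rep_ev _).pow 7).mul (rep_ev _)) (by decide +kernel)) (by decide)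
    have hlt := hI.fix_lt (g := ev [0, 3]) ((rep_ev _).ne Rep.one (by decide +kernel))
    have e : ∀ j j' : ZMod 19, j * (7 : ℕ) = j' → m j' = m j := fun j j' h => by rw [← h, hm]
    have en : ∀ j j' : ZMod 19, -j = j' → m j' = m j := fun j j' h => by rw [← h, hneg]
    have e1 := e 1 7 (by decide)
    have e2 := e 7 11 (by decide)
    have e3 := en 1 18 (by decide)
    have e4 := en 7 12 (by decide)
    have e5 := en 11 8 (by decide)
    have f1 := e 2 14 (by decide)
    have f2 := e 14 3 (by decide)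
    have f3 := en 2 17 (by decide)
    have f4 := en 14 5 (by decide)
    have f5 := en 3 16 (by decide)
    have g1 := e 4 9 (by decide)
    have g2 := e 9 6 (by decide)
    have g3 := en 4 15 (by decide)
    have g4 := en 9 10 (by decide)
    have g5 := en 6 13 (by decide)
    have hs : ∑ j, m j = m 0 + m 1 + m 2 + m 3 + m 4 + m 5 + m 6 + m 7 + m 8 + m 9 + m 10 + m 11 + m 12 + m 13 +
        m 14 + m 15 + m 16 + m 17 + m 18 := by
      have : ∀ f : Fin 19 → ℕ, ∑ j, f j = f 0 + f 1 + f 2 + f 3 + f 4 + f 5 + f 6 + f 7 + f 8 + f 9 + f 10 + f 11 +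
          f 12 + f 13 + f 14 + f 15 + f 16 + f 17 + f 18 := by
        intro f
        rw [Fin.sum_univ_castSucc, Fin.sum_univ_castSucc, Fin.sum_univ_castSucc, Fin.sum_univ_castSucc,
          Fin.sum_univ_castSucc, Fin.sum_univ_castSucc, Fin.sum_univ_castSucc, Fin.sum_univ_castSucc,
          Fin.sum_univ_castSucc, Fin.sum_univ_castSucc, Fin.sum_univ_castSucc, Fin.sum_univ_eight]
        rfl
      exact this m
    have s1 := hI.scott gen19
    omega
  · have h7' : ((7 : ℕ) : K) ≠ 0 := by exact_mod_cast h7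
    obtain ⟨m, hm⟩ := eig hB (c := ev [0]) (y := ev w7) (r := 7) (k := 2) h7'
      (((rep_ev _).pow 7).eq Rep.one (by decide +kernel))
      (by
        rw [mul_inv_eq_iff_eq_mul]
        exact ((rep_ev _).mul (rep_ev _)).eq (((rep_ev _).pow 2).mul (rep_ev _)) (by decide +kernel)) Sc.A7.res7
    have hlt := hI.fix_lt (g := ev [0]) ((rep_ev _).ne Rep.one (by decide +kernel))
    have s1 := hI.scott gen7
    omega

end Cfsg.Agent.H882.ScJ1
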