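import Cfsg.Agent.H882.Del.Dim

/-!
# Scott's lemma and eigenvalue multiplicities (helper882)

* `scott` : `G = ⟨x, y⟩` irreducible on `V` : `dim V^x + dim V^y + dim V^(xy) ≤ dim V`.
* `eig` : `c` of prime order `r ≠ char`, `y c y⁻¹ = c ^ k`, invariant nondegenerate form, `± k ^ i` all residues:
  `dim V = dim V^c + (r - 1) m`.
* `nine'` : `3 × 3` with arbitrary dimensions.
-/

set_option autoImplicit false
set_option linter.unusedSectionVars false

namespace Cfsg.Agent.H882.Sc

open Module Cfsg.Agent.H637.JW Cfsg.Agent.H882.Dim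

variable {K : Type*} [Field K] {V : Type*} [AddCommGroup V] [Module K V] [FiniteDimensional K V]
  {G : Type*} [Group G] {σ : G →* Module.End K V}

/-- irreducible representations of dimension at least two -/
structure Irr (σ : G →* Module.End K V) : Prop where
  irr : ∀ U : Submodule K V, (∀ g, ∀ u ∈ U, σ g u ∈ U) → U = ⊥ ∨ U = ⊤
  two : 2 ≤ finrank K V

theorem Irr.no_fixed (h : Irr σ) {v : V} (hv : ∀ g, σ g v = v) : v = 0 := by
  by_contra h0
  rcases h.irr (K ∙ v) (fun g u hu => by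
    obtain ⟨c, rfl⟩ := Submodule.mem_span_singleton.1 hu
    rw [map_smul, hv]
    exact Submodule.smul_mem _ _ (Submodule.mem_span_singleton_self v)) with h1 | h1
  · exact h0 ((Submodule.mem_bot K).1 (h1 ▸ Submodule.mem_span_singleton_self v))
  · have h2 := finrank_span_singleton (K := K) h0
    rw [h1, finrank_top] at h2
    have := h.two
    omega

theorem Irr.no_fixed_gen (h : Irr σ) {S : Set G} (hS : Subgroup.closure S = ⊤) {v : V} (hv : ∀ g ∈ S, σ g v = v) :
    v = 0 := by
  refine h.no_fixed fun g => ?_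
  have h1 : Subgroup.closure S ≤ stab σ v := (Subgroup.closure_le _).2 hv
  rw [hS] at h1
  exact h1 (Subgroup.mem_top g)

/-- the range of `g - 1` -/
def Rg (σ : G →* Module.End K V) (g : G) : Submodule K V := LinearMap.range (σ g - 1)

theorem mem_Rg (g : G) (v : V) : σ g v - v ∈ Rg σ g := ⟨v, rfl⟩

theorem rank_Rg (g : G) : finrank K (Rg σ g) + finrank K (Fix σ g) = finrank K V := by
  have h1 := LinearMap.finrank_range_add_finrank_ker (σ g - 1)
  have h2 : LinearMap.ker (σ g - 1) = Fix σ g := by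
    ext v
    rw [LinearMap.mem_ker, LinearMap.sub_apply, Module.End.one_apply, sub_eq_zero, mem_Fix]
  rwa [h2] at h1

theorem Irr.sup_eq_top (h : Irr σ) {x y : G} (hxy : Subgroup.closure {x, y} = ⊤) : Rg σ x ⊔ Rg σ y = ⊤ := by
  set U := Rg σ x ⊔ Rg σ y with hU
  let T : Subgroup G :=
    { carrier := {g | ∀ v, σ g v - v ∈ U}
      one_mem' := by
        intro v
        rw [map_one, Module.End.one_apply, sub_self]
        exact U.zero_mem
      mul_mem' := by
        intro a b ha hb v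
        rw [mul_apply', ← sub_add_sub_cancel _ (σ b v)]
        exact U.add_mem (ha _) (hb v)
      inv_mem' := by
        intro a ha v
        have h1 := ha (σ a⁻¹ v)
        rw [← mul_apply', mul_inv_cancel, map_one, Module.End.one_apply] at h1
        rw [← neg_sub]
        exact U.neg_mem h1 }
  have hT : Subgroup.closure {x, y} ≤ T := by
    rw [Subgroup.closure_le]
    rintro g (rfl | rfl)
    · exact fun v => (le_sup_left : Rg σ g ≤ U) (mem_Rg g v)
    · exact fun v => (le_sup_right : Rg σ g ≤ U) (mem_Rg g v)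
  rw [hxy] at hT
  have hall : ∀ g v, σ g v - v ∈ U := fun g v => hT (Subgroup.mem_top g) v
  rcases h.irr U (fun g u hu => by
    rw [← sub_add_cancel (σ g u) u]
    exact U.add_mem (hall g u) hu) with h1 | h1
  · exfalso
    have h2 : ∀ g v, σ g v = v := fun g v => by
      have := hall g v
      rw [h1, Submodule.mem_bot, sub_eq_zero] at this
      exact this
    have : Nontrivial V := Module.nontrivial_of_finrank_pos (R := K) (by have := h.two; omega)
    obtain ⟨v, hv⟩ := exists_ne (0 : V)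
    exact hv (h.no_fixed fun g => h2 g v)
  · exact h1

/-- **Scott's lemma** -/
theorem Irr.scott (h : Irr σ) {x y : G} (hxy : Subgroup.closure {x, y} = ⊤) :
    finrank K (Fix σ x) + finrank K (Fix σ y) + finrank K (Fix σ (x * y)) ≤ finrank K V := by
  let f : Fix σ (x * y) →ₗ[K] V := (σ y - 1).comp (Fix σ (x * y)).subtype
  have hfx : ∀ v : Fix σ (x * y), σ x (σ y (v : V)) = v := fun v => by
    rw [← mul_apply']
    exact mem_Fix.1 v.2
  have hf : Function.Injective f := by
    rw [injective_iff_map_eq_zero]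
    rintro ⟨v, hv⟩ h0
    have h3 : σ y v = v := sub_eq_zero.1 h0
    have h4 : σ x (σ y v) = v := hfx ⟨v, hv⟩
    rw [h3] at h4
    refine Subtype.ext (h.no_fixed_gen hxy ?_)
    rintro g (rfl | rfl)
    · exact h4
    · exact h3
  have hr : LinearMap.range f ≤ Rg σ x ⊓ Rg σ y := by
    rintro _ ⟨v, rfl⟩
    refine ⟨⟨-(σ y v), ?_⟩, ⟨v, rfl⟩⟩
    change σ x (-(σ y v)) - -(σ y v) = σ y v - v
    rw [map_neg, hfx v]
    abel
  have h5 := Submodule.finrank_mono hr
  rw [LinearMap.finrank_range_of_inj hf] at h5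
  have h6 := Submodule.finrank_sup_add_finrank_inf_eq (Rg σ x) (Rg σ y)
  rw [h.sup_eq_top hxy, finrank_top] at h6
  have h7 := rank_Rg (σ := σ) x
  have h8 := rank_Rg (σ := σ) y
  omega

/-! ### Eigenvalue multiplicities -/

/-- An invariant nondegenerate form. -/
structure Form (σ : G →* Module.End K V) (B : V →ₗ[K] V →ₗ[K] K) : Prop where
  inv : ∀ g v w, B (σ g v) (σ g w) = B v w
  nd : ∀ v, (∀ w, B v w = 0) → v = 0

section eig

variable [IsAlgClosed K]

/-- the eigenspace -/
def Eg (σ : G →* Module.End K V) (c : G) (μ : K) : Submodule K V := (σ c).eigenspace μ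

theorem mem_Eg {c : G} {μ : K} {v : V} : v ∈ Eg σ c μ ↔ σ c v = μ • v := Module.End.mem_eigenspace_iff

theorem finrank_Eg_pow {c y : G} {k : ℕ} (h : y * c * y⁻¹ = c ^ k) (μ : K) :
    finrank K (Eg σ c μ) ≤ finrank K (Eg σ c (μ ^ k)) := by
  refine finrank_le_of_map (σ := σ) y⁻¹ fun v hv => ?_
  rw [mem_Eg] at hv ⊢
  have h1 : c * y⁻¹ = y⁻¹ * c ^ k := by rw [← h]; group
  rw [← mul_apply', h1, mul_apply', map_pow, pow_apply hv, map_smul]

theorem finrank_Eg_inv {B : V →ₗ[K] V →ₗ[K] K} (hB : Form σ B) {c : G} {r : ℕ} [NeZero r] (hr : (r : K) ≠ 0)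
    (hc : c ^ r = 1) {ζ : K} (hζ : IsPrimitiveRoot ζ r) (i : ZMod r) :
    finrank K (Eg σ c (ζ ^ i.val)) ≤ finrank K (Eg σ c (ζ ^ (-i).val)) := by
  let f : Eg σ c (ζ ^ i.val) →ₗ[K] Module.Dual K (Eg σ c (ζ ^ (-i).val)) :=
    (Module.Dual.transpose (R := K) (Submodule.subtype (Eg σ c (ζ ^ (-i).val)))) ∘ₗ B ∘ₗ Submodule.subtype _
  have hinj : Function.Injective f := by
    rw [injective_iff_map_eq_zero]
    rintro ⟨v, hv⟩ h0
    have h1 : ∀ w ∈ Eg σ c (ζ ^ (-i).val), B v w = 0 := fun w hw => LinearMap.congr_fun h0 ⟨w, hw⟩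
    have h2 : ∀ j : ZMod r, ∀ w ∈ Eg σ c (ζ ^ j.val), B v w = 0 := by
      intro j w hw
      by_cases hj : j = -i
      · subst hj
        exact h1 w hw
      · have h3 := hB.inv c v w
        rw [mem_Eg.1 hv, mem_Eg.1 hw, map_smul, map_smul, LinearMap.smul_apply, smul_eq_mul, smul_eq_mul,
          ← mul_assoc, ← pow_val_add hζ.pow_eq_one] at h3
        have h4 : ζ ^ (j + i).val ≠ 1 := by
          intro h5
          have h6 := hζ.pow_inj (ZMod.val_lt _) (ZMod.val_lt (0 : ZMod r)) (h5.trans (by simp))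
          have h7 := ZMod.val_injective r h6
          exact hj (eq_neg_of_add_eq_zero_left h7)
        have h5 : (ζ ^ (j + i).val - 1) * B v w = 0 := by rw [sub_mul, one_mul, h3, sub_self]
        exact (mul_eq_zero.1 h5).resolve_left (sub_ne_zero.2 h4)
    have hsup := iSup_W (V := V) hr hζ (f := fun _ : Unit => σ c) (fun _ _ => rfl)
      (fun _ => by rw [← map_pow, hc, map_one])
    refine Subtype.ext (hB.nd v fun w => ?_)
    have hw : w ∈ ⨆ d, W r ζ (fun _ : Unit => σ c) d := by rw [hsup]; trivial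
    induction hw using Submodule.iSup_induction' with
    | mem d w hw => exact h2 (d ()) w (mem_Eg.2 (mem_W.1 hw ()))
    | zero => exact map_zero _
    | add x y _ _ hx hy => rw [map_add, hx, hy, add_zero]
  have := LinearMap.finrank_le_finrank_of_injective hinj
  rwa [Subspace.dual_finrank_eq] at this

/-- **Multiplicities for an element of prime order.** -/
theorem eig {B : V →ₗ[K] V →ₗ[K] K} (hB : Form σ B) {c y : G} {r : ℕ} [hr : Fact r.Prime] (hrK : (r : K) ≠ 0)
    (hc : c ^ r = 1) {k : ℕ} (h : y * c * y⁻¹ = c ^ k)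
    (hk : ∀ j : ZMod r, j ≠ 0 → ∃ i : Fin r, j = (k : ZMod r) ^ (i : ℕ) ∨ j = -(k : ZMod r) ^ (i : ℕ)) :
    ∃ m, finrank K V = finrank K (Fix σ c) + (r - 1) * m := by
  classical
  obtain ⟨ζ, hζ⟩ := exists_root (K := K) hrK
  have hsum := sum_W (V := V) hrK hζ (f := fun _ : Unit => σ c) (fun _ _ => rfl)
    (fun _ => by rw [← map_pow, hc, map_one])
  set m : ZMod r → ℕ := fun j => finrank K (Eg σ c (ζ ^ j.val)) with hm
  have hW : ∀ d : Unit → ZMod r, finrank K (W r ζ (fun _ : Unit => σ c) d) = m (d ()) := by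
    intro d
    have : W r ζ (fun _ : Unit => σ c) d = Eg σ c (ζ ^ (d ()).val) := by
      ext v
      rw [mem_W, mem_Eg]
      exact ⟨fun h => h (), fun h _ => h⟩
    rw [this]
  have hsum2 : ∑ j : ZMod r, m j = finrank K V := by
    rw [← hsum, Finset.sum_congr rfl fun d _ => hW d]
    exact (Fintype.sum_equiv (Equiv.funUnique Unit (ZMod r)) _ _ fun d => rfl).symm
  have hmul : ∀ j : ZMod r, m j ≤ m (j * k) := by
    intro j
    have h1 := finrank_Eg_pow (σ := σ) h (ζ ^ j.val)
    have h2 : (ζ ^ j.val) ^ k = ζ ^ (j * k : ZMod r).val := by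
      rw [← pow_mul, ZMod.val_mul, ← pow_mod_of_pow_eq_one hζ.pow_eq_one (j.val * k),
        ZMod.val_natCast, Nat.mul_mod_mod]
    rw [h2] at h1
    exact h1
  have hmuls : ∀ (i : ℕ) (j : ZMod r), m j ≤ m (j * (k : ZMod r) ^ i) := by
    intro i
    induction i with
    | zero => intro j; rw [pow_zero, mul_one]
    | succ i ih =>
      intro j
      refine (ih j).trans ((hmul _).trans ?_)
      rw [pow_succ, mul_assoc]
  have hneg : ∀ j : ZMod r, m j ≤ m (-j) := fun j => finrank_Eg_inv hB hrK hc hζ j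
  have hall : ∀ j j' : ZMod r, j ≠ 0 → j' ≠ 0 → m j ≤ m j' := by
    intro j j' hj hj'
    obtain ⟨i, hi | hi⟩ := hk (j' / j) (div_ne_zero hj' hj)
    · have := hmuls i j
      rwa [← hi, mul_div_cancel₀ _ hj] at this
    · have := (hmuls i j).trans (hneg _)
      rwa [← mul_neg, ← hi, mul_div_cancel₀ _ hj] at this
  refine ⟨m 1, ?_⟩
  rw [← hsum2, ← Finset.add_sum_erase Finset.univ m (Finset.mem_univ 0)]
  have h0 : m 0 = finrank K (Fix σ c) := by
    simp only [hm]
    rw [ZMod.val_zero, pow_zero]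
    rfl
  rw [h0]
  congr 1
  rw [Finset.sum_congr rfl (g := fun _ => m 1) fun j hj => ?_, Finset.sum_const, smul_eq_mul,
    Finset.card_erase_of_mem (Finset.mem_univ _), Finset.card_univ, ZMod.card]
  have hj0 : j ≠ 0 := Finset.ne_of_mem_erase hj
  exact le_antisymm (hall j 1 hj0 one_ne_zero) (hall 1 j one_ne_zero hj0)

/-- **Multiplicities for an element of prime order**, general form. -/
theorem eig_mult {B : V →ₗ[K] V →ₗ[K] K} (hB : Form σ B) {c y : G} {r : ℕ} [hr : Fact r.Prime] (hrK : (r : K) ≠ 0)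
    (hc : c ^ r = 1) {k : ℕ} (h : y * c * y⁻¹ = c ^ k) {s : ℕ} (hk : (k : ZMod r) ^ (s + 1) = 1) :
    ∃ m : ZMod r → ℕ, m 0 = finrank K (Fix σ c) ∧ ∑ j, m j = finrank K V ∧ (∀ j, m (j * k) = m j) ∧
      ∀ j, m (-j) = m j := by
  classical
  obtain ⟨ζ, hζ⟩ := exists_root (K := K) hrK
  have hsum := sum_W (V := V) hrK hζ (f := fun _ : Unit => σ c) (fun _ _ => rfl)
    (fun _ => by rw [← map_pow, hc, map_one])
  set m : ZMod r → ℕ := fun j => finrank K (Eg σ c (ζ ^ j.val)) with hm
  have hW : ∀ d : Unit → ZMod r, finrank K (W r ζ (fun _ : Unit => σ c) d) = m (d ()) := by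
    intro d
    have : W r ζ (fun _ : Unit => σ c) d = Eg σ c (ζ ^ (d ()).val) := by
      ext v
      rw [mem_W, mem_Eg]
      exact ⟨fun h => h (), fun h _ => h⟩
    rw [this]
  have hsum2 : ∑ j : ZMod r, m j = finrank K V := by
    rw [← hsum, Finset.sum_congr rfl fun d _ => hW d]
    exact (Fintype.sum_equiv (Equiv.funUnique Unit (ZMod r)) _ _ fun d => rfl).symm
  have hmul : ∀ j : ZMod r, m j ≤ m (j * k) := by
    intro j
    have h1 := finrank_Eg_pow (σ := σ) h (ζ ^ j.val)
    have h2 : (ζ ^ j.val) ^ k = ζ ^ (j * k : ZMod r).val := by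
      rw [← pow_mul, ZMod.val_mul, ← pow_mod_of_pow_eq_one hζ.pow_eq_one (j.val * k),
        ZMod.val_natCast, Nat.mul_mod_mod]
    rw [h2] at h1
    exact h1
  have hmuls : ∀ (i : ℕ) (j : ZMod r), m j ≤ m (j * (k : ZMod r) ^ i) := by
    intro i
    induction i with
    | zero => intro j; rw [pow_zero, mul_one]
    | succ i ih =>
      intro j
      refine (ih j).trans ((hmul _).trans ?_)
      rw [pow_succ, mul_assoc]
  have hneg : ∀ j : ZMod r, m j ≤ m (-j) := fun j => finrank_Eg_inv hB hrK hc hζ j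
  refine ⟨m, ?_, hsum2, fun j => le_antisymm ?_ (hmul j), fun j => le_antisymm ?_ (hneg j)⟩
  · simp only [hm]
    rw [ZMod.val_zero, pow_zero]
    rfl
  · have := hmuls s (j * k)
    rwa [mul_assoc, ← pow_succ', hk, mul_one] at this
  · have := hneg (-j)
    rwa [neg_neg] at this

end eig

end Cfsg.Agent.H882.Sc
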