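import Cfsg.Agent.H882.Sc.Scott
import Cfsg.Agent.H882.Del.DimEl

/-!
# More relations between dimensions of fixed spaces (helper882)
-/

set_option autoImplicit false
set_option linter.unusedSectionVars false

namespace Cfsg.Agent.H882.Sc

open Module Cfsg.Agent.H637.JW Cfsg.Agent.H882.Dim

variable {K : Type*} [Field K] {V : Type*} [AddCommGroup V] [Module K V] [FiniteDimensional K V]
  {G : Type*} [Group G] {σ : G →* Module.End K V}

/-- `3 × 3`, arbitrary dimensions of the fixed spaces of the four lines. -/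
theorem nine' (h3 : (3 : K) ≠ 0) {x y : G} (hx : x * x * x = 1) (hy : y * y * y = 1) (hxy : x * y = y * x) :
    finrank K (Fix σ x) + finrank K (Fix σ y) + finrank K (Fix σ (x * y)) + finrank K (Fix σ (x * x * y)) =
      3 * finrank K (Fix σ x ⊓ Fix σ y : Submodule K V) + finrank K V := by
  have hc : ∀ v, σ x (σ y v) = σ y (σ x v) := fun v => by rw [← mul_apply', hxy, mul_apply']
  have hxx : ∀ v, σ x (σ x (σ x v)) = v := fun v => by rw [← mul_apply', ← mul_apply', hx, act_one]
  have hyy : ∀ v, σ y (σ y (σ y v)) = v := fun v => by rw [← mul_apply', ← mul_apply', hy, act_one]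
  -- invariance
  have i1 : ∀ v ∈ Om σ x, σ y v ∈ Om σ x := by
    intro v hv
    rw [mem_Om] at hv ⊢
    rw [hc, hc, ← map_add, ← map_add, hv, map_zero]
  have i2 : ∀ v ∈ Om σ y, σ x v ∈ Om σ y := by
    intro v hv
    rw [mem_Om] at hv ⊢
    rw [← hc, ← hc, ← map_add, ← map_add, hv, map_zero]
  have i3 : ∀ v ∈ Om σ x, σ x v ∈ Om σ x := by
    intro v hv
    rw [mem_Om] at hv ⊢
    rw [← map_add, ← map_add, hv, map_zero]
  have i4 : ∀ v ∈ Om σ y, σ y v ∈ Om σ y := by
    intro v hv
    rw [mem_Om] at hv ⊢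
    rw [← map_add, ← map_add, hv, map_zero]
  have s1 := split_three (σ := σ) h3 hx (⊤ : Submodule K V) (fun _ _ => trivial)
  rw [top_inf_eq, top_inf_eq, finrank_top] at s1
  have s2 := split_three h3 hy (Om σ x) (fun v hv => Submodule.add_mem _ (Submodule.add_mem _ hv (i1 v hv))
    (i1 _ (i1 v hv)))
  have s3 := split_fix (σ := σ) h3 hx hxy
  have s4 := split_fix (σ := σ) h3 hx (y := x * y) (by rw [mul_assoc x y x, ← hxy])
  have s5 := split_fix (σ := σ) h3 hx (y := x * x * y) (by rw [mul_assoc (x * x) y x, ← hxy, mul_assoc, mul_assoc])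
  have hxy3 : x * y * (x * y) * (x * y) = 1 := by
    calc x * y * (x * y) * (x * y) = x * (y * x) * y * (x * y) := by group
      _ = x * x * (y * y * x) * y := by rw [← hxy]; group
      _ = x * x * x * (y * y * y) := by
        rw [mul_assoc y y x, ← hxy, ← mul_assoc y x y, ← hxy]
        group
      _ = 1 := by rw [hx, hy, one_mul]
  have s6 := split_three h3 hxy3 (Om σ x ⊓ Om σ y) (fun v hv => by
    have j : ∀ v ∈ Om σ x ⊓ Om σ y, σ (x * y) v ∈ Om σ x ⊓ Om σ y := fun v hv => by
      rw [mul_apply']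
      exact ⟨i3 _ (i1 v hv.1), i2 _ (i4 v hv.2)⟩
    exact Submodule.add_mem _ (Submodule.add_mem _ hv (j v hv)) (j _ (j v hv)))
  have e0 : Fix σ y ⊓ Fix σ x = Fix σ x ⊓ Fix σ y := inf_comm _ _
  have e1 : Fix σ (x * y) ⊓ Fix σ x = Fix σ x ⊓ Fix σ y := by
    ext v
    simp only [Submodule.mem_inf, mem_Fix, mul_apply']
    constructor
    · rintro ⟨h1, h4⟩
      rw [hc, h4] at h1
      exact ⟨h4, h1⟩
    · rintro ⟨h1, h4⟩
      exact ⟨by rw [h4, h1], h1⟩
  have e2 : Fix σ (x * x * y) ⊓ Fix σ x = Fix σ x ⊓ Fix σ y := by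
    ext v
    simp only [Submodule.mem_inf, mem_Fix, mul_apply']
    constructor
    · rintro ⟨h1, h4⟩
      rw [hc, hc, h4, h4] at h1
      exact ⟨h4, h1⟩
    · rintro ⟨h1, h4⟩
      exact ⟨by rw [h4, h1, h1], h1⟩
  have e3 : (Om σ x ⊓ Om σ y) ⊓ Fix σ (x * y) = Fix σ (x * y) ⊓ Om σ x := by
    ext v
    simp only [Submodule.mem_inf, mem_Fix, mem_Om, mul_apply']
    constructor
    · rintro ⟨⟨h1, -⟩, h4⟩
      exact ⟨h4, h1⟩
    · rintro ⟨h1, h4⟩
      refine ⟨⟨h4, ?_⟩, h1⟩
      -- `y v = x² v`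
      have h5 : σ y v = σ x (σ x v) := by
        conv_rhs => rw [← h1]
        rw [hxx]
      rw [h5, hc (σ x v) |>.symm, ← hc, h5, hxx, ← h4]
      abel
  have e4 : (Om σ x ⊓ Om σ y) ⊓ Om σ (x * y) = Fix σ (x * x * y) ⊓ Om σ x := by
    ext v
    simp only [Submodule.mem_inf, mem_Fix, mem_Om, mul_apply']
    constructor
    · rintro ⟨⟨h1, h4⟩, h5⟩
      refine ⟨?_, h1⟩
      have q1 : σ x (σ x v) = -v - σ x v := by linear_combination (norm := module) h1
      have q2 : σ y (σ y v) = -v - σ y v := by linear_combination (norm := module) h4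
      have q3 : σ x (σ x (σ y v)) = -σ y v - σ x (σ y v) := by
        rw [hc v, hc (σ x v), q1, map_sub, map_neg, ← hc v]
      have q4 : (2 : K) • v + σ x v + σ y v + (2 : K) • σ x (σ y v) = 0 := by
        rw [← hc (σ y v), q2, map_sub, map_neg, map_sub, map_neg, q1, q3] at h5
        linear_combination (norm := module) h5
      have q5 := congrArg (σ x) q4
      rw [map_add, map_add, map_add, map_smul, map_smul, q1, q3, map_zero] at q5
      have q6 : (3 : K) • (σ x v - σ y v) = 0 := by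
        linear_combination (norm := module) q4 + (2 : K) • q5
      have q7 := sub_eq_zero.1 ((smul_eq_zero.1 q6).resolve_left h3)
      rw [← q7, hxx]
    · rintro ⟨h1, h4⟩
      -- `y v = x v`
      have h5 : σ y v = σ x v := by
        conv_rhs => rw [← h1]
        rw [hxx]
      refine ⟨⟨h4, ?_⟩, ?_⟩
      · rw [h5, ← hc, h5, h4]
      · rw [h5, ← hc (σ x v), ← hc v, h5, hxx, ← h4]
        abel
  rw [e0] at s3
  rw [e1] at s4
  rw [e2] at s5
  rw [e3, e4] at s6
  have e5 : Fix σ y ⊓ Om σ x = Om σ x ⊓ Fix σ y := inf_comm _ _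
  rw [e5] at s3
  omega

/-- four-groups on an invariant subspace -/
theorem klein_sub (h2 : (2 : K) ≠ 0) {a b : G} (ha : a * a = 1) (hb : b * b = 1) (hab : a * b = b * a)
    (U : Submodule K V) (hUa : ∀ v ∈ U, σ a v ∈ U) (hUb : ∀ v ∈ U, σ b v ∈ U) :
    finrank K (U ⊓ Fix σ a : Submodule K V) + finrank K (U ⊓ Fix σ b : Submodule K V) +
      finrank K (U ⊓ Fix σ (a * b) : Submodule K V) =
      2 * finrank K (U ⊓ Fix σ a ⊓ Fix σ b : Submodule K V) + finrank K U := by
  have hc : ∀ v, σ a (σ b v) = σ b (σ a v) := fun v => by rw [← mul_apply', hab, mul_apply']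
  have s0 := split_two h2 ha U hUa
  have s1 := split_two h2 hb (U ⊓ Fix σ a) (fun v hv => ⟨hUb v hv.1, fix_le_of_comm hab.symm hv.2⟩)
  have s2 := split_two h2 ha (U ⊓ Fix σ b) (fun v hv => ⟨hUa v hv.1, fix_le_of_comm hab hv.2⟩)
  have s3 := split_two h2 ha (U ⊓ Fix σ (a * b)) (fun v hv => ⟨hUa v hv.1, by
    refine fix_le_of_comm ?_ hv.2
    rw [mul_assoc, ← hab]⟩)
  have s4 := split_two h2 hb (U ⊓ An σ a) (fun v hv => ⟨hUb v hv.1, by
    have h1 := hv.2
    change σ b v ∈ An σ a
    rw [SetLike.mem_coe, mem_An] at h1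
    rw [mem_An, hc, h1, map_neg]⟩)
  have e1 : U ⊓ Fix σ b ⊓ Fix σ a = U ⊓ Fix σ a ⊓ Fix σ b := inf_right_comm _ _ _
  have e2 : U ⊓ Fix σ (a * b) ⊓ Fix σ a = U ⊓ Fix σ a ⊓ Fix σ b := by
    ext v
    simp only [Submodule.mem_inf, mem_Fix, mul_apply']
    constructor
    · rintro ⟨⟨h0, h1⟩, h3⟩
      refine ⟨⟨h0, h3⟩, ?_⟩
      rw [hc, h3] at h1
      exact h1
    · rintro ⟨⟨h0, h1⟩, h3⟩
      exact ⟨⟨h0, by rw [h3, h1]⟩, h1⟩
  have e3 : U ⊓ Fix σ (a * b) ⊓ An σ a = U ⊓ An σ a ⊓ An σ b := by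
    ext v
    simp only [Submodule.mem_inf, mem_Fix, mem_An, mul_apply']
    constructor
    · rintro ⟨⟨h0, h1⟩, h3⟩
      refine ⟨⟨h0, h3⟩, ?_⟩
      rw [hc, h3, map_neg] at h1
      exact neg_eq_iff_eq_neg.1 h1
    · rintro ⟨⟨h0, h1⟩, h3⟩
      exact ⟨⟨h0, by rw [h3, map_neg, h1, neg_neg]⟩, h1⟩
  have e4 : U ⊓ Fix σ b ⊓ An σ a = U ⊓ An σ a ⊓ Fix σ b := inf_right_comm _ _ _
  rw [e1, e4] at s2
  rw [e2, e3] at s3
  omega

/-- `⟨a, b, y⟩ = A₄` : `dim V^y ≤ dim V^a`. -/
theorem a4_le (h2 : (2 : K) ≠ 0) {a b y : G} (haa : a * a = 1) (hbb : b * b = 1) (hab : a * b = b * a)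
    (hya : y * a = b * y) (hyb : y * b = a * b * y) : finrank K (Fix σ y) ≤ finrank K (Fix σ a) := by
  have k2 := split_two (σ := σ) h2 hbb (Fix σ a) (fun v hv => fix_le_of_comm hab.symm hv)
  have hya' : ∀ v, σ y (σ a v) = σ b (σ y v) := fun v => by rw [← mul_apply', hya, mul_apply']
  have hyb' : ∀ v, σ y (σ b v) = σ a (σ b (σ y v)) := fun v => by
    rw [← mul_apply', hyb, mul_apply', mul_apply']
  have hab' : ∀ v, σ a (σ b v) = σ b (σ a v) := fun v => by rw [← mul_apply', hab, mul_apply']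
  have haa' : ∀ v, σ a (σ a v) = v := fun v => by rw [← mul_apply', haa, act_one]
  have hbb' : ∀ v, σ b (σ b v) = v := fun v => by rw [← mul_apply', hbb, act_one]
  let φ : Module.End K V := 1 + σ a - σ b - σ (a * b)
  have hφ : ∀ v, φ v = v + σ a v - σ b v - σ a (σ b v) := fun v => by
    change v + σ a v - σ b v - σ (a * b) v = _
    rw [mul_apply']
  have hφm : ∀ v ∈ Fix σ y, φ v ∈ (Fix σ a ⊓ An σ b : Submodule K V) := by
    intro v _
    rw [hφ]
    constructor
    · change _ ∈ Fix σ a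
      rw [mem_Fix, map_sub, map_sub, map_add, haa', haa']
      abel
    · change _ ∈ An σ b
      rw [mem_An, map_sub, map_sub, map_add, hbb', ← hab', ← hab', hbb']
      abel
  let ψ : Fix σ y →ₗ[K] (Fix σ a ⊓ An σ b : Submodule K V) := φ.restrict hφm
  have r1 := LinearMap.finrank_range_add_finrank_ker ψ
  have r2 : finrank K (LinearMap.range ψ) ≤ finrank K (Fix σ a ⊓ An σ b : Submodule K V) := Submodule.finrank_le _
  have r3 : finrank K (LinearMap.ker ψ) ≤ finrank K (Fix σ a ⊓ Fix σ b : Submodule K V) := by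
    let j : LinearMap.ker ψ →ₗ[K] V := (Fix σ y).subtype ∘ₗ (LinearMap.ker ψ).subtype
    have hj : ∀ v, j v ∈ (Fix σ a ⊓ Fix σ b : Submodule K V) := by
      rintro ⟨⟨v, hv⟩, h0⟩
      change v ∈ _
      have hv' := mem_Fix.1 hv
      have h0' : φ v = 0 := congrArg Subtype.val (LinearMap.mem_ker.1 h0)
      rw [hφ, hab' v] at h0'
      have h1 := congrArg (σ y) h0'
      rw [map_sub, map_sub, map_add, map_zero, hya' v, hyb' v, hyb' (σ a v), hya' v, hv', hab' v, hbb'] at h1
      have h4 := congrArg (σ y) h1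
      rw [map_sub, map_sub, map_add, map_zero, hyb' v, hyb' (σ a v), hya' v, hv', hab' v, hbb'] at h4
      have e1 : (2 : K) • (σ a v - σ b v) = 0 := by
        linear_combination (norm := module) h0' - h1
      have e2 : (2 : K) • (v - σ b v) = 0 := by
        linear_combination (norm := module) h0' + h4
      have e3 := sub_eq_zero.1 ((smul_eq_zero.1 e1).resolve_left h2)
      have e4 := sub_eq_zero.1 ((smul_eq_zero.1 e2).resolve_left h2)
      exact ⟨mem_Fix.2 (e3.trans e4.symm), mem_Fix.2 e4.symm⟩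
    refine LinearMap.finrank_le_finrank_of_injective (f := j.codRestrict _ hj) ?_
    intro u v huv
    have h : j u = j v := by
      have h1 : ((j.codRestrict _ hj u : (Fix σ a ⊓ Fix σ b : Submodule K V)) : V) =
          (j.codRestrict _ hj v : (Fix σ a ⊓ Fix σ b : Submodule K V)) := by rw [huv]
      exact h1
    exact Subtype.ext (Subtype.ext h)
  omega

/-- An element of order three inverted by an involution: the codimension of its fixed space is even. -/
theorem even_of_inv (h2 : (2 : K) ≠ 0) (h3 : (3 : K) ≠ 0) {a y : G} (ha : a * a = 1) (hay : a * y = y * y * a)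
    (hy : y * y * y = 1) : ∃ m, finrank K V = finrank K (Fix σ y) + 2 * m := by
  have s1 := split_three (σ := σ) h3 hy (⊤ : Submodule K V) (fun _ _ => trivial)
  rw [top_inf_eq, top_inf_eq, finrank_top] at s1
  have s2 := half_three (σ := σ) h2 h3 ha hay hy (Om σ y) (fun v hv => om_of_inv hy hay hv) (fun v hv => om_self hv)
    (fun v hv => hv)
  exact ⟨_, by rw [← s1, ← s2]⟩

/-- kernels of products -/
theorem finrank_ker_mul_le (f g : Module.End K V) :
    finrank K (LinearMap.ker (f * g)) ≤ finrank K (LinearMap.ker f) + finrank K (LinearMap.ker g) := by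
  let h : LinearMap.ker (f * g) →ₗ[K] LinearMap.ker f :=
    g.restrict (p := LinearMap.ker (f * g)) (q := LinearMap.ker f) (fun v hv => hv)
  have h1 := LinearMap.finrank_range_add_finrank_ker h
  have h2 : finrank K (LinearMap.range h) ≤ finrank K (LinearMap.ker f) := Submodule.finrank_le _
  have h3 : finrank K (LinearMap.ker h) ≤ finrank K (LinearMap.ker g) := by
    let j : LinearMap.ker h →ₗ[K] V := (LinearMap.ker (f * g)).subtype ∘ₗ (LinearMap.ker h).subtype
    have hj : ∀ v, j v ∈ LinearMap.ker g := by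
      rintro ⟨⟨v, hv⟩, h0⟩
      exact congrArg Subtype.val (LinearMap.mem_ker.1 h0)
    refine LinearMap.finrank_le_finrank_of_injective (f := j.codRestrict _ hj) ?_
    intro u v huv
    have h : j u = j v := by
      have h1 : ((j.codRestrict _ hj u : LinearMap.ker g) : V) = (j.codRestrict _ hj v : LinearMap.ker g) := by rw [huv]
      exact h1
    exact Subtype.ext (Subtype.ext h)
  omega

theorem finrank_ker_pow_le (f : Module.End K V) (n : ℕ) :
    finrank K (LinearMap.ker (f ^ n)) ≤ n * finrank K (LinearMap.ker f) := by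
  induction n with
  | zero =>
    rw [pow_zero, zero_mul]
    have : LinearMap.ker (1 : Module.End K V) = ⊥ := LinearMap.ker_id
    rw [this, finrank_bot]
  | succ n ih =>
    have := finrank_ker_mul_le (f ^ n) f
    rw [← pow_succ] at this
    rw [add_mul, one_mul]
    omega

/-- An element of order `p = char`: `dim V ≤ p dim V^c`. -/
theorem le_of_char {p : ℕ} [hp : Fact p.Prime] [CharP K p] {c : G} (hc : c ^ p = 1) :
    finrank K V ≤ p * finrank K (Fix σ c) := by
  have h1 : (σ c - 1) ^ p = 0 := by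
    have hc1 : Commute (σ c) 1 := Commute.one_right _
    by_cases hV : Nontrivial V
    · have : CharP (Module.End K V) p := charP_of_injective_algebraMap (algebraMap K (Module.End K V)).injective p
      rw [sub_pow_char_of_commute p hc1, ← map_pow, hc, map_one, one_pow, sub_self]
    · rw [not_nontrivial_iff_subsingleton] at hV
      exact Subsingleton.elim _ _
  have h2 := finrank_ker_pow_le (σ c - 1) p
  rw [h1] at h2
  have h3 : LinearMap.ker (0 : Module.End K V) = ⊤ := LinearMap.ker_zero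
  have h4 : LinearMap.ker (σ c - 1) = Fix σ c := by
    ext v
    rw [LinearMap.mem_ker, LinearMap.sub_apply, Module.End.one_apply, sub_eq_zero, mem_Fix]
  rwa [h3, h4, finrank_top] at h2

theorem Irr.fix_lt [IsSimpleGroup G] (h : Irr σ) {g : G} (hg : g ≠ 1) : finrank K (Fix σ g) < finrank K V := by
  by_contra hlt
  have h1 : Fix σ g = ⊤ := by
    apply Submodule.eq_top_of_finrank_eq
    exact le_antisymm (Submodule.finrank_le _) (not_lt.1 hlt)
  have hker : g ∈ σ.ker := by
    rw [MonoidHom.mem_ker]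
    ext v
    have : v ∈ Fix σ g := by rw [h1]; trivial
    exact mem_Fix.1 this
  have htop : σ.ker = ⊤ := by
    rcases (inferInstance : σ.ker.Normal).eq_bot_or_eq_top with h2 | h2
    · rw [h2, Subgroup.mem_bot] at hker
      exact absurd hker hg
    · exact h2
  have : Nontrivial V := Module.nontrivial_of_finrank_pos (R := K) (by have := h.two; omega)
  obtain ⟨v, hv⟩ := exists_ne (0 : V)
  refine hv (h.no_fixed fun g => ?_)
  have h3 : g ∈ σ.ker := by rw [htop]; trivial
  rw [MonoidHom.mem_ker.1 h3, Module.End.one_apply]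

theorem fix_conj {g h k : G} (e : k * g = h * k) : finrank K (Fix σ h) = finrank K (Fix σ g) := by
  rw [← conj_eq e, finrank_Fix_conj]

/-- a word -/
def ev (x y : G) (l : List Bool) : G := (l.map fun b => if b then y else x).prod

theorem ev_mem (x y : G) (l : List Bool) : ev x y l ∈ Subgroup.closure ({x, y} : Set G) := by
  refine Subgroup.list_prod_mem _ fun g hg => ?_
  rw [List.mem_map] at hg
  obtain ⟨b, -, rfl⟩ := hg
  cases b
  · exact Subgroup.subset_closure (by simp)
  · exact Subgroup.subset_closure (by simp)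

end Cfsg.Agent.H882.Sc
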